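import Mathlib

/-!
# The algebra of trivialisations of a symmetric cocycle on a finite projective Hopf algebra
-/

set_option autoImplicit false
set_option linter.style.haveILetI false
set_option maxHeartbeats 1000000
set_option backward.isDefEq.respectTransparency false

universe u

open TensorProduct LinearMap Coalgebra

noncomputable section

namespace Groth.Agent.GmExtSplit

variable {R A : Type u} [CommRing R] [CommRing A] [HopfAlgebra R A]

/-- The underlying module of a twisted coalgebra. -/
def Tw (R : Type u) (A : Type u) : Type u := A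

instance instAddCommGroupTw {R A : Type u} [CommRing A] : AddCommGroup (Tw R A) := inferInstanceAs (AddCommGroup A)
instance instModuleTw {R A : Type u} [CommRing R] [CommRing A] [Algebra R A] : Module R (Tw R A) :=
  inferInstanceAs (Module R A)

local notation "aid" => AlgHom.id R A
local notation "Δa" => Bialgebra.comulAlgHom R A
local notation "εa" => Bialgebra.counitAlgHom R A
local notation "iL" => (Algebra.TensorProduct.includeLeft : A →ₐ[R] A ⊗[R] A)
local notation "iR" => (Algebra.TensorProduct.includeRight : A →ₐ[R] A ⊗[R] A)

/-- The twisted comultiplication. -/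
def twΔ (d : A ⊗[R] A) : A →ₗ[R] A ⊗[R] A := (LinearMap.mulLeft R d).comp (Coalgebra.comul (R := R))

theorem twΔ_apply (d : A ⊗[R] A) (x : A) : twΔ d x = d * Coalgebra.comul (R := R) x := rfl

theorem rTensor_twΔ (d : A ⊗[R] A) (z : A ⊗[R] A) :
    TensorProduct.map (twΔ d) LinearMap.id z = (d ⊗ₜ[R] (1 : A)) * Algebra.TensorProduct.map Δa aid z := by
  induction z using TensorProduct.induction_on with
  | zero => simp
  | tmul a b => simp [twΔ_apply]
  | add z w hz hw => rw [map_add, map_add, hz, hw, mul_add]

theorem lTensor_twΔ (d : A ⊗[R] A) (z : A ⊗[R] A) :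
    TensorProduct.map LinearMap.id (twΔ d) z = ((1 : A) ⊗ₜ[R] d) * Algebra.TensorProduct.map aid Δa z := by
  induction z using TensorProduct.induction_on with
  | zero => simp
  | tmul a b => simp [twΔ_apply]
  | add z w hz hw => rw [map_add, map_add, hz, hw, mul_add]

variable [Module.Finite R A] [Module.Projective R A]

omit [Module.Finite R A] [Module.Projective R A] in
/-- In an algebra whose module is the dual with the twisted product there is a universal trivialisation. -/
theorem exists_universal_of_dual [Module.Finite R A] [Module.Projective R A] {B : Type u} [CommRing B] [Algebra R B]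
    (d : A ⊗[R] A) (hd : IsUnit d) (le : B ≃ₗ[R] (A →ₗ[R] R))
    (hone : le 1 = (Coalgebra.counit (R := R) : A →ₗ[R] R))
    (hmul' : ∀ (φ ψ : B) (x : A), le (φ * ψ) x = LinearMap.mul' R R (TensorProduct.map (le φ) (le ψ) (twΔ d x))) :
    ∃ f : B ⊗[R] A, IsUnit f ∧
      ((1 : B) ⊗ₜ[R] d) * Algebra.TensorProduct.map (AlgHom.id R B) Δa f =
        Algebra.TensorProduct.map (AlgHom.id R B) iL f * Algebra.TensorProduct.map (AlgHom.id R B) iR f := by
  -- the universal element
  let Ψ : ∀ (Z : Type u) [AddCommGroup Z] [Module R Z], B ⊗[R] Z →ₗ[R] A →ₗ[R] Z := fun Z _ _ =>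
    (dualTensorHom R A Z).comp (TensorProduct.map le.toLinearMap LinearMap.id)
  have hΨt : ∀ (Z : Type u) [AddCommGroup Z] [Module R Z] (φ : B) (z : Z) (x : A),
      Ψ Z (φ ⊗ₜ z) x = le φ x • z := fun Z _ _ φ z x => rfl
  have hΨ : ∀ (Z : Type u) [AddCommGroup Z] [Module R Z], Function.Bijective (Ψ Z) := fun Z _ _ =>
    (dualTensorHom_bijective (R := R) (M := A) (N := Z)).comp
      (TensorProduct.congr le (LinearEquiv.refl R Z)).bijective
  obtain ⟨f, hf⟩ := (hΨ A).2 LinearMap.id
  have hΔ : ∀ (w : B ⊗[R] A) (x : A),
      Ψ (A ⊗[R] A) (((1 : B) ⊗ₜ[R] d) * Algebra.TensorProduct.map (AlgHom.id R B) Δa w) x = twΔ d (Ψ A w x) := by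
    intro w x
    induction w using TensorProduct.induction_on with
    | zero => simp
    | tmul φ a => simp [hΨt, twΔ_apply]
    | add w w' h h' => simp only [map_add, mul_add, LinearMap.add_apply, h, h']
  have hmul : ∀ (w w' : B ⊗[R] A) (x : A),
      Ψ (A ⊗[R] A) (Algebra.TensorProduct.map (AlgHom.id R B) iL w * Algebra.TensorProduct.map (AlgHom.id R B) iR w') x =
        TensorProduct.map (Ψ A w) (Ψ A w') (twΔ d x) := by
    intro w w' x
    induction w using TensorProduct.induction_on with
    | zero => simp
    | tmul φ a =>
      induction w' using TensorProduct.induction_on with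
      | zero => simp
      | tmul φ' a' =>
        simp only [Algebra.TensorProduct.map_tmul, AlgHom.coe_id, id_eq, Algebra.TensorProduct.tmul_mul_tmul,
          Algebra.TensorProduct.includeLeft_apply, Algebra.TensorProduct.includeRight_apply, mul_one, one_mul]
        rw [hΨt]
        rw [hmul']
        generalize twΔ d x = z
        induction z using TensorProduct.induction_on with
        | zero => simp
        | tmul y y' => simp [hΨt, TensorProduct.smul_tmul', TensorProduct.tmul_smul, smul_smul, mul_comm]
        | add z z' h h' => simp only [map_add, add_smul, h, h']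
      | add w' w'' h h' => simp only [map_add, mul_add, LinearMap.add_apply, h, h', TensorProduct.map_add_right]
    | add w w'' h h' => simp only [map_add, add_mul, LinearMap.add_apply, h, h', TensorProduct.map_add_left]
  have heq : ((1 : B) ⊗ₜ[R] d) * Algebra.TensorProduct.map (AlgHom.id R B) Δa f =
      Algebra.TensorProduct.map (AlgHom.id R B) iL f * Algebra.TensorProduct.map (AlgHom.id R B) iR f := by
    refine (hΨ (A ⊗[R] A)).1 (LinearMap.ext fun x => ?_)
    rw [hΔ, hmul, hf, LinearMap.id_apply, TensorProduct.map_id, LinearMap.id_apply]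
  refine ⟨f, ?_, heq⟩
  -- the universal element is invertible
  have hε : ∀ w : B ⊗[R] A, le (TensorProduct.rid R B (Algebra.TensorProduct.map (AlgHom.id R B) εa w)) =
      (Coalgebra.counit (R := R) : A →ₗ[R] R).comp (Ψ A w) := fun w => by
    induction w using TensorProduct.induction_on with
    | zero => simp
    | tmul φ a =>
      refine LinearMap.ext fun x => ?_
      simp [hΨt, mul_comm]
    | add w w' h h' => simp only [map_add, h, h', LinearMap.comp_add]
  have hεf : Algebra.TensorProduct.map (AlgHom.id R B) εa f = 1 := by
    apply (TensorProduct.rid R B).injective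
    apply le.injective
    rw [hε, hf, LinearMap.comp_id]
    have : TensorProduct.rid R B (1 : B ⊗[R] R) = 1 := by
      rw [Algebra.TensorProduct.one_def, TensorProduct.rid_tmul, one_smul]
    rw [this, hone]
  let τ : A ⊗[R] A →ₐ[R] A := Algebra.TensorProduct.productMap aid (HopfAlgebra.antipodeAlgHom R A)
  let T := Algebra.TensorProduct.map (AlgHom.id R B) τ
  have h := congrArg T heq
  rw [map_mul, map_mul] at h
  have hΔτ : T (Algebra.TensorProduct.map (AlgHom.id R B) Δa f) = 1 := by
    have : ∀ w : B ⊗[R] A, T (Algebra.TensorProduct.map (AlgHom.id R B) Δa w) =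
        Algebra.TensorProduct.map (AlgHom.id R B) (Algebra.ofId R A)
          (Algebra.TensorProduct.map (AlgHom.id R B) εa w) := fun w => by
      induction w using TensorProduct.induction_on with
      | zero => simp
      | tmul φ a =>
        simp only [T, Algebra.TensorProduct.map_tmul, AlgHom.coe_id, id_eq]
        congr 1
        show τ (Coalgebra.comul (R := R) a) = algebraMap R A (Coalgebra.counit (R := R) a)
        rw [← HopfAlgebra.mul_antipode_lTensor_comul_apply]
        generalize Coalgebra.comul (R := R) a = z
        induction z using TensorProduct.induction_on with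
        | zero => simp
        | tmul y y' => simp [τ]
        | add z z' h h' => simp only [map_add, h, h']
      | add w w' h h' => simp only [map_add, h, h']
    rw [this, hεf, map_one]
  have hL : T (Algebra.TensorProduct.map (AlgHom.id R B) iL f) = f := by
    rw [← AlgHom.comp_apply, ← Algebra.TensorProduct.map_comp, AlgHom.comp_id,
      show τ.comp iL = aid from AlgHom.ext fun a => by simp [τ], Algebra.TensorProduct.map_id]
    rfl
  rw [hΔτ, mul_one, hL] at h
  have hu : IsUnit (T ((1 : B) ⊗ₜ[R] d)) :=
    (hd.map (Algebra.TensorProduct.includeRight : A ⊗[R] A →ₐ[R] B ⊗[R] (A ⊗[R] A))).map T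
  rw [h] at hu
  exact isUnit_of_mul_isUnit_left hu


/-- The faithfully flat algebra over which a symmetric normalised cocycle becomes a coboundary. -/
theorem exists_universal [Coalgebra.IsCocomm R A] (d : A ⊗[R] A) (hd : IsUnit d)
    (hsym : Algebra.TensorProduct.comm R A A d = d)
    (hnorm : Algebra.TensorProduct.lid R A (Algebra.TensorProduct.map εa aid d) = 1)
    (hcoc : Algebra.TensorProduct.assoc R R R A A A ((d ⊗ₜ[R] (1 : A)) * Algebra.TensorProduct.map Δa aid d) =
      ((1 : A) ⊗ₜ[R] d) * Algebra.TensorProduct.map aid Δa d) :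
    ∃ (B : Type u) (_ : CommRing B) (_ : Algebra R B), Module.FaithfullyFlat R B ∧ Algebra.FinitePresentation R B ∧
      ∃ f : B ⊗[R] A, IsUnit f ∧
        ((1 : B) ⊗ₜ[R] d) * Algebra.TensorProduct.map (AlgHom.id R B) Δa f =
          Algebra.TensorProduct.map (AlgHom.id R B) iL f * Algebra.TensorProduct.map (AlgHom.id R B) iR f := by
  have hnorm' : Algebra.TensorProduct.map εa aid d = 1 :=
    (Algebra.TensorProduct.lid R A).injective (by rw [hnorm, map_one])
  have hnorm'' : Algebra.TensorProduct.map aid εa d = 1 := by
    have : ∀ z : A ⊗[R] A, Algebra.TensorProduct.map aid εa (Algebra.TensorProduct.comm R A A z) =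
        Algebra.TensorProduct.comm R R A (Algebra.TensorProduct.map εa aid z) := fun z => by
      induction z using TensorProduct.induction_on with
      | zero => simp
      | tmul a b => simp
      | add z w hz hw => rw [map_add, map_add, map_add, map_add, hz, hw]
    rw [← hsym, this, hnorm', map_one]
  let cε : Tw R A →ₗ[R] R := (Coalgebra.counit (R := R) : A →ₗ[R] R)
  let cΔ : Tw R A →ₗ[R] Tw R A ⊗[R] Tw R A := (twΔ d : A →ₗ[R] A ⊗[R] A)
  letI cs : CoalgebraStruct R (Tw R A) := { comul := cΔ, counit := cε }
  letI co : Coalgebra R (Tw R A) :=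
    { cs with
      coassoc := by
        refine LinearMap.ext fun x => ?_
        suffices h : ∀ y : A, TensorProduct.assoc R A A A (TensorProduct.map (twΔ d) LinearMap.id (twΔ d y)) =
            TensorProduct.map LinearMap.id (twΔ d) (twΔ d y) from h x
        clear x
        intro x
        rw [rTensor_twΔ, lTensor_twΔ, twΔ_apply]
        show Algebra.TensorProduct.assoc R R R A A A _ = _
        simp only [map_mul, ← mul_assoc]
        simp only [map_mul] at hcoc
        rw [← hcoc]
        have h2 : Algebra.TensorProduct.map aid Δa (Coalgebra.comul (R := R) x) =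
            Algebra.TensorProduct.assoc R R R A A A (Algebra.TensorProduct.map Δa aid (Coalgebra.comul (R := R) x)) :=
          (Coalgebra.coassoc_apply x).symm
        rw [h2]
      rTensor_counit_comp_comul := by
        refine LinearMap.ext fun x => ?_
        suffices h : ∀ y : A, TensorProduct.map (Coalgebra.counit (R := R)) LinearMap.id (twΔ d y) = (1 : R) ⊗ₜ[R] y from h x
        clear x
        intro x
        have h1 : Algebra.TensorProduct.map εa aid (twΔ d x) = (1 : R) ⊗ₜ[R] (x : A) := by
          rw [twΔ_apply, map_mul, hnorm', one_mul]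
          exact Coalgebra.rTensor_counit_comul x
        exact h1
      lTensor_counit_comp_comul := by
        refine LinearMap.ext fun x => ?_
        suffices h : ∀ y : A, TensorProduct.map LinearMap.id (Coalgebra.counit (R := R)) (twΔ d y) = y ⊗ₜ[R] (1 : R) from h x
        clear x
        intro x
        have h1 : Algebra.TensorProduct.map aid εa (twΔ d x) = (x : A) ⊗ₜ[R] (1 : R) := by
          rw [twΔ_apply, map_mul, hnorm'', one_mul]
          exact Coalgebra.lTensor_counit_comul x
        exact h1 }
  haveI : Coalgebra.IsCocomm R (Tw R A) := ⟨by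
    refine LinearMap.ext fun x => ?_
    suffices h : ∀ y : A, Algebra.TensorProduct.comm R A A (twΔ d y) = twΔ d y from h x
    clear x
    intro x
    rw [twΔ_apply, map_mul, hsym]
    congr 1
    exact Coalgebra.comm_comul R x⟩
  haveI : Module.Finite R (Tw R A) := inferInstanceAs (Module.Finite R A)
  haveI : Module.Projective R (Tw R A) := inferInstanceAs (Module.Projective R A)
  let B := WithConv (Tw R A →ₗ[R] R)
  let le : B ≃ₗ[R] (A →ₗ[R] R) := WithConv.linearEquiv R _
  haveI : Module.Finite R B := Module.Finite.equiv le.symm
  haveI : Module.Projective R B := Module.Projective.of_equiv le.symm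
  haveI : Module.FinitePresentation R B := Module.finitePresentation_of_projective R B
  haveI : Algebra.FinitePresentation R B := inferInstance
  haveI : Module.Flat R B := inferInstance
  have hff : Module.FaithfullyFlat R B := by
    refine (Module.FaithfullyFlat.iff_flat_and_proper_ideal R B).mpr ⟨inferInstance, fun I hI h => ?_⟩
    let ev : B →ₗ[R] R := (LinearMap.applyₗ (1 : A)).comp le.toLinearMap
    have hev : ev ((1 : B)) = 1 := by
      show algebraMap R R (Coalgebra.counit (R := R) (1 : A)) = 1
      rw [Bialgebra.counit_one, map_one]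
    apply hI
    rw [Ideal.eq_top_iff_one]
    have h1 : (1 : B) ∈ I • (⊤ : Submodule R B) := by rw [h]; trivial
    have h2 : ev (1 : B) ∈ (I • (⊤ : Submodule R B)).map ev := ⟨_, h1, rfl⟩
    rw [Submodule.map_smul'', hev] at h2
    have h3 := Submodule.smul_mono (le_refl I) (le_top : (⊤ : Submodule R B).map ev ≤ ⊤) h2
    rwa [Ideal.smul_eq_mul, Ideal.mul_top] at h3
  obtain ⟨f, hf, heq⟩ := exists_universal_of_dual d hd le rfl fun φ ψ x => rfl
  exact ⟨B, inferInstance, inferInstance, hff, inferInstance, f, hf, heq⟩

end Groth.Agent.GmExtSplit
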