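import Groth.Agent.GmExtSplit.Split
import Groth.Agent.GmExtSplit.TwistAlg
import Groth.Agent.GmTorsor.Points
import Groth.Agent.FixedSmooth.Props
import Groth.Agent.TorusField.Bridge

/-!
# Extensions of finite locally free groups by the multiplicative group split fppf locally, affine case
-/

set_option autoImplicit false
set_option backward.isDefEq.respectTransparency false
set_option backward.isDefEq.respectTransparency.types false
set_option linter.style.haveILetI false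
set_option synthInstance.maxHeartbeats 200000
set_option maxHeartbeats 2000000

universe u

open CategoryTheory CategoryTheory.Limits MonoidalCategory CartesianMonoidalCategory MonObj GrpObj
  AlgebraicGeometry
open scoped TensorProduct

noncomputable section

namespace Groth.Agent.GmExtSplit

open TorusField

theorem rearrange {H : Type*} [CommGroup H] (x y a b c : H) :
    x * a⁻¹ * (y * b⁻¹) * (a * b * c⁻¹) = x * y * c⁻¹ := by
  apply Additive.ofMul.injective
  simp only [ofMul_mul, ofMul_inv]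
  abel

theorem rearrange_coc {H : Type*} [CommGroup H] (a b c ab bc abc : H) :
    ab * c * abc⁻¹ * (a * b * ab⁻¹) = a * bc * abc⁻¹ * (b * c * bc⁻¹) := by
  apply Additive.ofMul.injective
  simp only [ofMul_mul, ofMul_inv]
  abel

theorem exists_cocycle_data {S : Scheme.{u}} {G E Q : Over S} [GrpObj G] [GrpObj E] [GrpObj Q] [IsCommMonObj Q]
    [IsCommMonObj E] {u : G ⟶ E} {v : E ⟶ Q} (hex : NonAbH1.IsExactSeq Scheme.fppfPrecoverage u v)
    (s₀ : Q ⟶ E) (hs₀ : s₀ ≫ v = 𝟙 Q) :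
    ∃ (τ : E ⟶ G) (cm : Q ⊗ Q ⟶ G),
      (∀ (T : Over S) (x y : T ⟶ E), (x * y) ≫ τ = (x ≫ τ) * (y ≫ τ) * (lift (x ≫ v) (y ≫ v) ≫ cm)) ∧
      (∀ (T : Over S) (g : T ⟶ G), (g ≫ u) ≫ τ = g) ∧
      (∀ (T : Over S) (g h : T ⟶ Q), lift g h ≫ cm = lift h g ≫ cm) ∧
      (∀ (T : Over S) (h : T ⟶ Q), lift (1 : T ⟶ Q) h ≫ cm = 1) ∧
      (∀ (T : Over S) (g h k : T ⟶ Q),
        (lift (g * h) k ≫ cm) * (lift g h ≫ cm) = (lift g (h * k) ≫ cm) * (lift h k ≫ cm)) := by
  haveI := hex.1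
  haveI := hex.2.1
  -- normalised section
  obtain ⟨s, hs, hs1⟩ : ∃ s : Q ⟶ E, s ≫ v = 𝟙 Q ∧ ∀ T : Over S, (1 : T ⟶ Q) ≫ s = 1 := by
    refine ⟨s₀ * ((1 : Q ⟶ Q) ≫ s₀)⁻¹, ?_, fun T => ?_⟩
    · rw [MonObj.mul_comp, GrpObj.inv_comp, Category.assoc, hs₀, Category.comp_id, inv_one, _root_.mul_one]
    · rw [MonObj.comp_mul, GrpObj.comp_inv, ← Category.assoc, MonObj.comp_one, mul_inv_cancel]
  -- the retraction and the cocycle
  obtain ⟨τ, hτ⟩ := FppfExtLib.exists_of_comp_eq_one hex (𝟙 E * (v ≫ s)⁻¹)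
    (by rw [MonObj.mul_comp, GrpObj.inv_comp, Category.assoc, hs, Category.comp_id, Category.id_comp, mul_inv_cancel])
  obtain ⟨cm, hcm⟩ := FppfExtLib.exists_of_comp_eq_one hex
    ((fst Q Q ≫ s) * (snd Q Q ≫ s) * ((fst Q Q * snd Q Q) ≫ s)⁻¹)
    (by simp only [MonObj.mul_comp, GrpObj.inv_comp, Category.assoc, hs, Category.comp_id, mul_inv_cancel])
  have hC : ∀ {T : Over S} (g h : T ⟶ Q),
      (lift g h ≫ cm) ≫ u = (g ≫ s) * (h ≫ s) * ((g * h) ≫ s)⁻¹ := fun g h => by
    rw [Category.assoc, hcm]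
    simp only [MonObj.comp_mul, GrpObj.comp_inv, lift_fst_assoc, lift_snd_assoc, ← Category.assoc (lift g h),
      lift_fst, lift_snd]
  have hTau : ∀ {T : Over S} (x : T ⟶ E), (x ≫ τ) ≫ u = x * ((x ≫ v) ≫ s)⁻¹ := fun x => by
    rw [Category.assoc, hτ, MonObj.comp_mul, GrpObj.comp_inv, Category.comp_id, Category.assoc]
  have hτmul : ∀ {T : Over S} (x y : T ⟶ E),
      (x * y) ≫ τ = (x ≫ τ) * (y ≫ τ) * (lift (x ≫ v) (y ≫ v) ≫ cm) := fun x y => by
    refine FppfExtLib.eq_of_comp_eq hex ?_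
    rw [MonObj.mul_comp _ _ u, MonObj.mul_comp _ _ u, hTau, hTau, hTau, hC, rearrange, MonObj.mul_comp _ _ v]
  have hsym : ∀ {T : Over S} (g h : T ⟶ Q), lift g h ≫ cm = lift h g ≫ cm := fun g h =>
    FppfExtLib.eq_of_comp_eq hex (by rw [hC, hC, _root_.mul_comm g h, _root_.mul_comm (g ≫ s)])
  have hnorm : ∀ {T : Over S} (h : T ⟶ Q), lift (1 : T ⟶ Q) h ≫ cm = 1 := fun h =>
    FppfExtLib.eq_of_comp_eq hex (by rw [hC, hs1, _root_.one_mul, _root_.one_mul, mul_inv_cancel, MonObj.one_comp])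
  have hcoc : ∀ {T : Over S} (g h k : T ⟶ Q),
      (lift (g * h) k ≫ cm) * (lift g h ≫ cm) = (lift g (h * k) ≫ cm) * (lift h k ≫ cm) := fun g h k =>
    FppfExtLib.eq_of_comp_eq hex (by
      rw [MonObj.mul_comp _ _ u, MonObj.mul_comp _ _ u, hC, hC, hC, hC, _root_.mul_assoc g h k, rearrange_coc])
  refine ⟨τ, cm, fun T x y => hτmul x y, fun T g => ?_, fun T g h => hsym g h, fun T h => hnorm h,
    fun T g h k => hcoc g h k⟩
  refine FppfExtLib.eq_of_comp_eq hex ?_
  rw [hTau, FppfExtLib.comp_comp_eq_one hex, hs1, inv_one, _root_.mul_one]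

theorem exists_section_of_family {S S' : Scheme.{u}} (b : S' ⟶ S) {G E Q : Over S} [GrpObj G] [GrpObj E] [GrpObj Q]
    [IsCommMonObj E] {u : G ⟶ E} {v : E ⟶ Q} (hex : NonAbH1.IsExactSeq Scheme.fppfPrecoverage u v)
    (τ : E ⟶ G) (cm : Q ⊗ Q ⟶ G) (F : Over.mk b ⊗ Q ⟶ G)
    (hτmul : ∀ {T : Over S} (x y : T ⟶ E), (x * y) ≫ τ = (x ≫ τ) * (y ≫ τ) * (lift (x ≫ v) (y ≫ v) ≫ cm))
    (hτu : ∀ {T : Over S} (g : T ⟶ G), (g ≫ u) ≫ τ = g)
    (hnorm : ∀ {T : Over S} (h : T ⟶ Q), lift (1 : T ⟶ Q) h ≫ cm = 1)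
    (hFeq : ∀ {X : Over S} (t : X ⟶ Over.mk b) (g h : X ⟶ Q),
      (lift t g ≫ F) * (lift t h ≫ F) = (lift g h ≫ cm) * (lift t (g * h) ≫ F)) :
    ∃ σ : Red.bc b Q ⟶ Red.bc b E, IsMonHom σ ∧ σ ≫ (Over.pullback b).map v = 𝟙 (Red.bc b Q) := by
  haveI := hex.1
  haveI := hex.2.1
  let T : Over S := Over.mk b
  let adj := Over.mapPullbackAdj b
  let πT : ∀ Y : Over S', (Over.map b).obj Y ⟶ T := fun Y => Over.homMk Y.hom rfl
  let χfam : T ⊗ E ⟶ G := (snd T E ≫ τ) * ((T ◁ v) ≫ F)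
  have hχfam : ∀ {X : Over S} (t : X ⟶ T) (x : X ⟶ E),
      lift t x ≫ χfam = (x ≫ τ) * (lift t (x ≫ v) ≫ F) := fun t x => by
    simp only [χfam, MonObj.comp_mul, lift_snd_assoc, lift_whiskerLeft_assoc]
  have hfam_mul : ∀ {X : Over S} (t : X ⟶ T) (x y : X ⟶ E),
      lift t (x * y) ≫ χfam = (lift t x ≫ χfam) * (lift t y ≫ χfam) := fun t x y => by
    rw [hχfam, hχfam, hχfam, hτmul, MonObj.mul_comp _ _ v, _root_.mul_assoc, ← hFeq]
    refine FppfExtLib.eq_of_comp_eq hex ?_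
    simp only [MonObj.mul_comp _ _ u]
    exact _root_.mul_mul_mul_comm _ _ _ _
  have hfam_u : ∀ {X : Over S} (t : X ⟶ T) (g : X ⟶ G),
      lift t (g ≫ u) ≫ χfam = g := fun t g => by
    have h1 : (g ≫ u) ≫ v = 1 := FppfExtLib.comp_comp_eq_one hex g
    have hF1 : lift t (1 : _ ⟶ Q) ≫ F = 1 := by
      have h := hFeq t 1 1
      rw [_root_.one_mul, hnorm, _root_.one_mul] at h
      exact mul_eq_left.mp h
    rw [hχfam, h1, hF1, hτu, _root_.mul_one]
  let F' := Over.pullback b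
  let χ' : Red.bc b E ⟶ Red.bc b (G) :=
    adj.homEquiv _ _ (lift (πT _) ((adj.homEquiv _ _).symm (𝟙 (Red.bc b E))) ≫ χfam)
  have hJ : ∀ {Y : Over S'} (k : Y ⟶ Red.bc b E),
      (adj.homEquiv _ _).symm (k ≫ χ') = lift (πT Y) ((adj.homEquiv _ _).symm k) ≫ χfam := fun {Y} k => by
    rw [Adjunction.homEquiv_naturality_left_symm, Equiv.symm_apply_apply, ← Category.assoc, comp_lift,
      ← Adjunction.homEquiv_naturality_left_symm, Category.comp_id]
    congr 2
    exact Over.OverMorphism.ext (Over.w k)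
  haveI : IsMonHom χ' := isMonHom_of_points χ' fun Y k k' => by
    apply (adj.homEquiv _ _).symm.injective
    rw [hJ, GenExtGrp.adj_mul, GenExtGrp.adj_mul, hfam_mul, hJ, hJ]
  have hret : (F'.map u : Red.bc b (G) ⟶ Red.bc b E) ≫ χ' = 𝟙 _ := by
    apply (adj.homEquiv _ _).symm.injective
    rw [hJ]
    have : (adj.homEquiv _ _).symm (F'.map u) = (adj.homEquiv _ _).symm (𝟙 (F'.obj (G))) ≫ u := by
      rw [← Adjunction.homEquiv_naturality_right_symm, Category.id_comp]
    rw [this, hfam_u]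
  exact exists_section_of_retraction (TwLatticeExt.isExactSeq_bc b hex) χ' hret

variable {R : Type u} [CommRing R]

/-- The affine scheme of an algebra over the base. -/
abbrev Wt (R : Type u) [CommRing R] (D : Type u) [CommRing D] [Algebra R D] : Over (Spec (CommRingCat.of R)) :=
  Over.mk (Spec.map (CommRingCat.ofHom (algebraMap R D)))

/-- The morphism of an algebra map. -/
def wm {D D' : Type u} [CommRing D] [Algebra R D] [CommRing D'] [Algebra R D'] (θ : D →ₐ[R] D') :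
    Wt R D' ⟶ Wt R D :=
  GmTorsor.mor θ.toRingHom (by
    rw [← Spec.map_comp, ← CommRingCat.ofHom_comp]
    exact congrArg (fun z => Spec.map (CommRingCat.ofHom z)) θ.comp_algebraMap)

theorem wm_comp {D D' D'' : Type u} [CommRing D] [Algebra R D] [CommRing D'] [Algebra R D'] [CommRing D'']
    [Algebra R D''] (θ : D →ₐ[R] D') (θ' : D' →ₐ[R] D'') : wm θ' ≫ wm θ = wm (θ'.comp θ) := by
  refine Over.OverMorphism.ext ?_
  simp only [wm, GmTorsor.mor, Over.comp_left, Over.homMk_left, ← Spec.map_comp]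
  rfl

theorem wm_surjective {D D' : Type u} [CommRing D] [Algebra R D] [CommRing D'] [Algebra R D'] (x : Wt R D' ⟶ Wt R D) :
    ∃ θ : D →ₐ[R] D', wm θ = x := by
  refine ⟨{ (Spec.preimage x.left).hom with commutes' := fun r => ?_ }, Over.OverMorphism.ext ?_⟩
  · have h : CommRingCat.ofHom (algebraMap R D) ≫ Spec.preimage x.left = CommRingCat.ofHom (algebraMap R D') := by
      apply Spec.map_injective
      rw [Spec.map_comp, Spec.map_preimage]
      exact Over.w x
    exact congr($h r)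
  · exact Spec.map_preimage _

theorem gm_wm {D D' : Type u} [CommRing D] [Algebra R D] [CommRing D'] [Algebra R D'] (θ : D →ₐ[R] D')
    (g : Wt R D ⟶ Red.Gm (Spec (CommRingCat.of R))) : GmTorsor.gmVal (wm θ ≫ g) = θ (GmTorsor.gmVal g) :=
  GmTorsor.gmVal_mor θ.toRingHom _ g

theorem gmVal_one' {D : Type u} [CommRing D] [Algebra R D] :
    GmTorsor.gmVal (1 : Wt R D ⟶ Red.Gm (Spec (CommRingCat.of R))) = 1 := by
  have h := GmTorsor.gmVal_mul (1 : Wt R D ⟶ Red.Gm (Spec (CommRingCat.of R))) 1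
  rw [_root_.one_mul] at h
  exact (GmTorsor.isUnit_gmVal (1 : Wt R D ⟶ Red.Gm (Spec (CommRingCat.of R)))).mul_eq_left.mp h.symm

theorem pmap_comp {A A' D D' : Type u} [CommRing A] [Algebra R A] [CommRing A'] [Algebra R A'] [CommRing D] [Algebra R D]
    [CommRing D'] [Algebra R D'] (θ : D →ₐ[R] D') (ψ : A →ₐ[R] D) (χ : A' →ₐ[R] D) :
    Algebra.TensorProduct.productMap (θ.comp ψ) (θ.comp χ) = θ.comp (Algebra.TensorProduct.productMap ψ χ) := by
  ext <;> simp

variable {A : Type u} [CommRing A] [HopfAlgebra R A] {Q E : Over (Spec (CommRingCat.of R))} [GrpObj Q] [GrpObj E]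

/-- The point of a group of an algebra map. -/
def qpt (eQ : specGrp R A ≅ Grp.mk Q) {D : Type u} [CommRing D] [Algebra R D] (ψ : A →ₐ[R] D) : Wt R D ⟶ Q :=
  wm ψ ≫ eQ.hom.hom.hom

theorem qpt_surjective (eQ : specGrp R A ≅ Grp.mk Q) {D : Type u} [CommRing D] [Algebra R D] (x : Wt R D ⟶ Q) :
    ∃ ψ : A →ₐ[R] D, qpt eQ ψ = x := by
  obtain ⟨ψ, hψ⟩ := wm_surjective (D := A) (x ≫ eQ.inv.hom.hom : Wt R D ⟶ Wt R A)
  refine ⟨ψ, ?_⟩
  show wm ψ ≫ eQ.hom.hom.hom = x
  rw [hψ]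
  exact (Category.assoc _ _ _).trans ((congrArg (x ≫ ·) (congrArg (fun f => f.hom.hom) eQ.inv_hom_id)).trans
    (Category.comp_id x))

theorem qpt_mul (eQ : specGrp R A ≅ Grp.mk Q) {D : Type u} [CommRing D] [Algebra R D] (ψ χ : A →ₐ[R] D) :
    qpt eQ ψ * qpt eQ χ = qpt eQ ((Algebra.TensorProduct.productMap ψ χ).comp (Bialgebra.comulAlgHom R A)) := by
  haveI : IsMonHom eQ.hom.hom.hom := eQ.hom.hom.isMonHom_hom
  let W : Over (Spec (CommRingCat.of R)) := (Spec (CommRingCat.of A)).asOver (Spec (CommRingCat.of R))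
  let e : (Wt R D ⟶ W) → (Wt R D ⟶ Q) := fun w => w ≫ eQ.hom.hom.hom
  let M := Spec.mapMulEquiv (R := R) (S := A) (T := D)
  show e (M (WithConv.toConv ψ)) * e (M (WithConv.toConv χ)) = e (M (WithConv.toConv _))
  refine (MonObj.mul_comp _ _ _).symm.trans (congrArg e ?_)
  refine (map_mul M _ _).symm.trans (congrArg M ?_)
  rw [AlgHom.convMul_def]
  refine congrArg WithConv.toConv (AlgHom.ext fun a => ?_)
  show Algebra.TensorProduct.lmul' R (Algebra.TensorProduct.map ψ χ (Bialgebra.comulAlgHom R A a)) = _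
  show _ = Algebra.TensorProduct.productMap ψ χ (Bialgebra.comulAlgHom R A a)
  generalize Bialgebra.comulAlgHom R A a = z
  induction z using TensorProduct.induction_on with
  | zero => simp
  | tmul a b => simp
  | add z w hz hw => simp only [map_add, hz, hw]

theorem qpt_one (eQ : specGrp R A ≅ Grp.mk Q) {D : Type u} [CommRing D] [Algebra R D] :
    qpt eQ ((Algebra.ofId R D).comp (Bialgebra.counitAlgHom R A)) = 1 := by
  haveI : IsMonHom eQ.hom.hom.hom := eQ.hom.hom.isMonHom_hom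
  let W : Over (Spec (CommRingCat.of R)) := (Spec (CommRingCat.of A)).asOver (Spec (CommRingCat.of R))
  let e : (Wt R D ⟶ W) → (Wt R D ⟶ Q) := fun w => w ≫ eQ.hom.hom.hom
  let M := Spec.mapMulEquiv (R := R) (S := A) (T := D)
  show e (M (WithConv.toConv _)) = 1
  have h : e (M 1) = 1 := by
    show M 1 ≫ eQ.hom.hom.hom = 1
    rw [map_one]
    exact MonObj.one_comp _
  exact (congrArg (fun z => e (M z)) (AlgHom.convOne_def (R := R) (C := A) (A := D)).symm).trans h

variable {u : Red.Gm (Spec (CommRingCat.of R)) ⟶ E} {v : E ⟶ Q}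

local notation "iL" => (Algebra.TensorProduct.includeLeft : A →ₐ[R] A ⊗[R] A)
local notation "iR" => (Algebra.TensorProduct.includeRight : A →ₐ[R] A ⊗[R] A)
local notation "Δa" => Bialgebra.comulAlgHom R A

variable [Module.Finite R A] [Module.Projective R A] [IsCommMonObj Q] [IsCommMonObj E]

/-- With a scheme theoretic section there is a faithfully flat splitting. -/
theorem exists_splitting_affine (eQ : specGrp R A ≅ Grp.mk Q)
    (hex : NonAbH1.IsExactSeq Scheme.fppfPrecoverage u v) (s₀ : Q ⟶ E) (hs₀ : s₀ ≫ v = 𝟙 Q) :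
    ∃ (S' : Scheme.{u}) (f : S' ⟶ Spec (CommRingCat.of R)), Flat f ∧ LocallyOfFinitePresentation f ∧ Surjective f ∧
      ∃ σ : Red.bc f Q ⟶ Red.bc f E, IsMonHom σ ∧ σ ≫ (Over.pullback f).map v = 𝟙 (Red.bc f Q) := by
  haveI := hex.1
  haveI := hex.2.1
  obtain ⟨τ, cm, hτmul', hτu', hsym', hnorm', hcoc''⟩ := exists_cocycle_data hex s₀ hs₀
  have hτmul : ∀ {T : Over (Spec (CommRingCat.of R))} (x y : T ⟶ E),
      (x * y) ≫ τ = (x ≫ τ) * (y ≫ τ) * (lift (x ≫ v) (y ≫ v) ≫ cm) := fun x y => hτmul' _ x y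
  have hsym : ∀ {T : Over (Spec (CommRingCat.of R))} (g h : T ⟶ Q), lift g h ≫ cm = lift h g ≫ cm :=
    fun g h => hsym' _ g h
  have hnorm : ∀ {T : Over (Spec (CommRingCat.of R))} (h : T ⟶ Q), lift (1 : T ⟶ Q) h ≫ cm = 1 := fun h => hnorm' _ h
  have hcoc : ∀ {T : Over (Spec (CommRingCat.of R))} (g h k : T ⟶ Q),
      (lift (g * h) k ≫ cm) * (lift g h ≫ cm) = (lift g (h * k) ≫ cm) * (lift h k ≫ cm) :=
    fun g h k => hcoc'' _ g h k
  -- the cocycle as a function
  let c : A ⊗[R] A := GmTorsor.gmVal (lift (qpt eQ iL) (qpt eQ iR) ≫ cm)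
  have hval : ∀ {D : Type u} [CommRing D] [Algebra R D] (ψ χ : A →ₐ[R] D),
      GmTorsor.gmVal (lift (qpt eQ ψ) (qpt eQ χ) ≫ cm) = Algebra.TensorProduct.productMap ψ χ c := by
    intro D _ _ ψ χ
    rw [← gm_wm]
    congr 1
    rw [← Category.assoc, comp_lift]
    simp only [qpt, ← Category.assoc, wm_comp]
    rw [Algebra.TensorProduct.productMap_left, Algebra.TensorProduct.productMap_right]
  have hc : IsUnit c := GmTorsor.isUnit_gmVal _
  have hcomm : Algebra.TensorProduct.comm R A A c = c := by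
    have h := congrArg GmTorsor.gmVal (hsym (qpt eQ iR) (qpt eQ iL))
    rw [hval, hval] at h
    rw [show Algebra.TensorProduct.productMap iL iR = AlgHom.id R (A ⊗[R] A) by ext <;> simp, AlgHom.id_apply] at h
    rw [show Algebra.TensorProduct.productMap iR iL = (Algebra.TensorProduct.comm R A A).toAlgHom by ext <;> simp] at h
    exact h
  have hlid : Algebra.TensorProduct.lid R A
      (Algebra.TensorProduct.map (Bialgebra.counitAlgHom R A) (AlgHom.id R A) c) = 1 := by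
    have h := congrArg GmTorsor.gmVal (hnorm (qpt eQ (AlgHom.id R A)))
    rw [gmVal_one', ← qpt_one eQ (D := A), hval,
      show Algebra.TensorProduct.productMap ((Algebra.ofId R A).comp (Bialgebra.counitAlgHom R A)) (AlgHom.id R A) =
        (Algebra.TensorProduct.lid R A).toAlgHom.comp
          (Algebra.TensorProduct.map (Bialgebra.counitAlgHom R A) (AlgHom.id R A)) by
        ext <;> simp [Algebra.smul_def, Algebra.ofId_apply]] at h
    exact h
  have hcoc' : Algebra.TensorProduct.assoc R R R A A A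
        ((c ⊗ₜ[R] (1 : A)) * Algebra.TensorProduct.map Δa (AlgHom.id R A) c) =
      ((1 : A) ⊗ₜ[R] c) * Algebra.TensorProduct.map (AlgHom.id R A) Δa c := by
    let α := (Algebra.TensorProduct.assoc R R R A A A).toAlgHom
    let p₁ : A →ₐ[R] A ⊗[R] (A ⊗[R] A) := Algebra.TensorProduct.includeLeft
    let i₂ : A ⊗[R] A →ₐ[R] A ⊗[R] (A ⊗[R] A) := Algebra.TensorProduct.includeRight
    let p₂ : A →ₐ[R] A ⊗[R] (A ⊗[R] A) := i₂.comp iL
    let p₃ : A →ₐ[R] A ⊗[R] (A ⊗[R] A) := i₂.comp iR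
    have h := congrArg GmTorsor.gmVal (hcoc (qpt eQ p₁) (qpt eQ p₂) (qpt eQ p₃))
    rw [GmTorsor.gmVal_mul, GmTorsor.gmVal_mul, qpt_mul, qpt_mul, hval, hval, hval, hval] at h
    have e₁ : Algebra.TensorProduct.productMap p₁ p₂ =
        α.comp (Algebra.TensorProduct.includeLeft : A ⊗[R] A →ₐ[R] (A ⊗[R] A) ⊗[R] A) := by
      ext <;> simp [α, p₁, p₂, i₂] <;> simp [← Algebra.TensorProduct.one_def]
    have e₂ : Algebra.TensorProduct.productMap p₂ p₃ = i₂ := by
      ext <;> simp [p₂, p₃, i₂]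
    have e₃ : Algebra.TensorProduct.productMap
        ((Algebra.TensorProduct.productMap p₁ p₂).comp Δa) p₃ =
        α.comp (Algebra.TensorProduct.map Δa (AlgHom.id R A)) := by
      rw [e₁]
      ext <;> simp [α, p₃, i₂, Algebra.TensorProduct.one_def]
    have e₄ : Algebra.TensorProduct.productMap p₁ ((Algebra.TensorProduct.productMap p₂ p₃).comp Δa) =
        Algebra.TensorProduct.map (AlgHom.id R A) Δa := by
      rw [e₂]
      ext <;> simp [p₁, i₂] <;> simp [← Algebra.TensorProduct.one_def]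
    rw [e₃, e₄, e₂, e₁] at h
    calc _ = α (c ⊗ₜ[R] (1 : A)) * α (Algebra.TensorProduct.map Δa (AlgHom.id R A) c) := map_mul α _ _
      _ = _ := (_root_.mul_comm _ _).trans (h.trans (_root_.mul_comm _ _))
  haveI : Coalgebra.IsCocomm R A := ⟨by
    refine LinearMap.ext fun x => ?_
    show Algebra.TensorProduct.comm R A A (Δa x) = Δa x
    have h := _root_.mul_comm (qpt eQ iL) (qpt eQ iR)
    rw [qpt_mul, qpt_mul] at h
    haveI : IsIso eQ.hom.hom.hom := ((Grp.forget _).mapIso eQ).isIso_hom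
    have h1 := congrArg (fun f => Spec.preimage f.left) ((cancel_mono eQ.hom.hom.hom).mp h)
    simp only [wm, GmTorsor.mor, Over.homMk_left, Spec.preimage_map] at h1
    have h2 := congr($h1 x)
    rw [show Algebra.TensorProduct.productMap iL iR = AlgHom.id R (A ⊗[R] A) by ext <;> simp,
      show Algebra.TensorProduct.productMap iR iL = (Algebra.TensorProduct.comm R A A).toAlgHom by ext <;> simp] at h2
    exact h2.symm⟩
  obtain ⟨B, _, _, hff, hfp, f₀, hf₀, heq⟩ := exists_universal c hc hcomm hlid hcoc'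
  -- the family of functions
  let T : Over (Spec (CommRingCat.of R)) := Wt R B
  let jB : B →ₐ[R] B ⊗[R] A := Algebra.TensorProduct.includeLeft
  let jA : A →ₐ[R] B ⊗[R] A := Algebra.TensorProduct.includeRight
  have hP := isPullback_SpecMap_of_isPushout _ _ _ _ (CommRingCat.isPushout_tensorProduct R B A)
  let P : Wt R (B ⊗[R] A) ⟶ T ⊗ Q := lift (wm jB) (qpt eQ jA)
  haveI : IsIso (lift (wm jB) (wm jA) : Wt R (B ⊗[R] A) ⟶ T ⊗ Wt R A) := by
    let l : Wt R (B ⊗[R] A) ⟶ T ⊗ Wt R A := lift (wm jB) (wm jA)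
    have h : l.left = hP.isoPullback.hom := by
      apply pullback.hom_ext
      · erw [hP.isoPullback_hom_fst]
      · erw [hP.isoPullback_hom_snd]
    haveI : IsIso l.left := by rw [h]; infer_instance
    haveI : IsIso ((Over.forget _).map l) := inferInstanceAs (IsIso l.left)
    exact isIso_of_reflects_iso l (Over.forget _)
  let eh : Wt R A ⟶ Q := eQ.hom.hom.hom
  haveI : IsIso eh := ((Grp.forget _).mapIso eQ).isIso_hom
  haveI : IsIso P := by
    have : P = lift (wm jB) (wm jA) ≫ (T ◁ eh) := by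
      rw [lift_whiskerLeft]
      rfl
    rw [this]
    infer_instance
  obtain ⟨g₀, hg₀⟩ := GmTorsor.exists_gmVal (f := Spec.map (CommRingCat.ofHom (algebraMap R (B ⊗[R] A)))) f₀ hf₀
  let F : T ⊗ Q ⟶ Red.Gm (Spec (CommRingCat.of R)) := inv P ≫ g₀
  have hF : ∀ {D : Type u} [CommRing D] [Algebra R D] (t : B →ₐ[R] D) (ψ : A →ₐ[R] D),
      GmTorsor.gmVal (lift (wm t) (qpt eQ ψ) ≫ F) = Algebra.TensorProduct.productMap t ψ f₀ := by
    intro D _ _ t ψ
    have h : lift (wm t) (qpt eQ ψ) = wm (Algebra.TensorProduct.productMap t ψ) ≫ P := by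
      simp only [P, comp_lift, qpt, ← Category.assoc, wm_comp, jB, jA, Algebra.TensorProduct.productMap_left,
        Algebra.TensorProduct.productMap_right]
    show GmTorsor.gmVal (_ ≫ inv P ≫ g₀) = _
    rw [h, Category.assoc, IsIso.hom_inv_id_assoc, gm_wm, hg₀]
  have hFeq : ∀ {X : Over (Spec (CommRingCat.of R))} (t : X ⟶ T) (g h : X ⟶ Q),
      (lift t g ≫ F) * (lift t h ≫ F) = (lift g h ≫ cm) * (lift t (g * h) ≫ F) := by
    intro X t g h
    refine FixedSmooth.hom_ext_affine _ _ fun D p w => ?_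
    simp only [MonObj.comp_mul, ← Category.assoc, comp_lift]
    obtain ⟨φ, rfl⟩ := Spec.map_surjective p
    letI : Algebra R D := φ.hom.toAlgebra
    obtain ⟨tt, ht⟩ := wm_surjective (D := B) (w ≫ t : Wt R D ⟶ T)
    obtain ⟨ψ, hψ⟩ := qpt_surjective eQ (w ≫ g : Wt R D ⟶ Q)
    obtain ⟨χ, hχ⟩ := qpt_surjective eQ (w ≫ h : Wt R D ⟶ Q)
    have key : (lift (wm tt) (qpt eQ ψ) ≫ F) * (lift (wm tt) (qpt eQ χ) ≫ F) =
        (lift (qpt eQ ψ) (qpt eQ χ) ≫ cm) * (lift (wm tt) (qpt eQ ψ * qpt eQ χ) ≫ F) := by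
      refine GmTorsor.gmVal_injective ?_
      rw [GmTorsor.gmVal_mul, GmTorsor.gmVal_mul, hF, hF, hval, qpt_mul, hF]
      let Θ := Algebra.TensorProduct.productMap tt (Algebra.TensorProduct.productMap ψ χ)
      have h1 : Algebra.TensorProduct.productMap tt ψ = Θ.comp (Algebra.TensorProduct.map (AlgHom.id R B) iL) := by
        ext <;> simp [Θ, Algebra.TensorProduct.one_def]
      have h2 : Algebra.TensorProduct.productMap tt χ = Θ.comp (Algebra.TensorProduct.map (AlgHom.id R B) iR) := by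
        ext <;> simp [Θ, Algebra.TensorProduct.one_def]
      have h3 : Algebra.TensorProduct.productMap ψ χ c = Θ ((1 : B) ⊗ₜ[R] c) := by
        simp [Θ]
      have h4 : Algebra.TensorProduct.productMap tt ((Algebra.TensorProduct.productMap ψ χ).comp Δa) =
          Θ.comp (Algebra.TensorProduct.map (AlgHom.id R B) Δa) := by
        ext <;> simp [Θ, Algebra.TensorProduct.one_def]
      rw [h1, h2, h3, h4, AlgHom.comp_apply, AlgHom.comp_apply, AlgHom.comp_apply, ← map_mul, ← map_mul, heq]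
    rw [ht, hψ, hχ] at key
    exact key
  -- the retraction over `B`
  let b := Spec.map (CommRingCat.ofHom (algebraMap R B))
  have hbfl : Flat b :=
    (HasRingHomProperty.Spec_iff (P := @Flat)).mpr (RingHom.flat_algebraMap_iff.2 inferInstance)
  have hbfp : LocallyOfFinitePresentation b :=
    (HasRingHomProperty.Spec_iff (P := @LocallyOfFinitePresentation)).mpr (RingHom.finitePresentation_algebraMap.2 hfp)
  have hbs : Surjective b :=
    ⟨(RingHom.FaithfullyFlat.iff_flat_and_comap_surjective.mp (RingHom.faithfullyFlat_algebraMap_iff.mpr hff)).2⟩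
  exact ⟨Spec (CommRingCat.of B), b, hbfl, hbfp, hbs,
    exists_section_of_family b hex τ cm F hτmul (fun g => hτu' _ g) hnorm hFeq⟩

end Groth.Agent.GmExtSplit
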