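import Groth.Agent.GmTorsor.Main
import Groth.Agent.TwLatticeExt.Action
import Groth.Agent.MaxTorus.ImageLocal
import Groth.Agent.PrincBundLib.Descends
import Groth.Agent.FpqcDesc.Basic

/-!
# Scheme theoretic sections of extensions of finite groups by the multiplicative group
-/

set_option autoImplicit false
set_option backward.isDefEq.respectTransparency false
set_option backward.defeqAttrib.useBackward true
set_option backward.isDefEq.respectTransparency.types false
set_option linter.style.haveILetI false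
set_option synthInstance.maxHeartbeats 200000
set_option maxHeartbeats 1000000

universe u

open scoped TensorProduct

noncomputable section

namespace Groth.Agent.GmExtSplit

open GmTorsor

/-- A cocycle is trivialised near any finite set of pairwise incomparable primes. -/
theorem exists_trivializing_finite {A B : Type u} [CommRing A] [CommRing B] [Algebra A B] [Module.FaithfullyFlat A B]
    (c w : B ⊗[A] B) (hw : c * w = 1)
    (h : Algebra.TensorProduct.map (AlgHom.id A B) (Algebra.TensorProduct.includeRight : B →ₐ[A] B ⊗[A] B) c =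
      ((1 : B) ⊗ₜ[A] c) *
        Algebra.TensorProduct.map (AlgHom.id A B) (Algebra.TensorProduct.includeLeft : B →ₐ[A] B ⊗[A] B) c)
    (ps : Finset (PrimeSpectrum A)) (hinc : ∀ p ∈ ps, ∀ q ∈ ps, p.asIdeal ≤ q.asIdeal → p = q) :
    ∃ (a : A) (m n : B), (∀ p ∈ ps, a ∉ p.asIdeal) ∧ c * ((1 : B) ⊗ₜ[A] m) = m ⊗ₜ[A] 1 ∧
      m * n = algebraMap A B a := by
  classical
  choose a m n ha hm hmn using fun p : PrimeSpectrum A => exists_trivializing c w hw h p.asIdeal
  let n' : PrimeSpectrum A → B := fun p => algebraMap A B (a p) * n p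
  have hn' : ∀ p, w * ((1 : B) ⊗ₜ[A] n' p) = n' p ⊗ₜ[A] 1 := fun p => by
    let α : B ⊗[A] B := algebraMap A (B ⊗[A] B) (a p)
    have hL : (m p ⊗ₜ[A] (1 : B)) * (n p ⊗ₜ[A] 1) = α := by
      rw [Algebra.TensorProduct.tmul_mul_tmul, hmn, mul_one]
      exact (Algebra.TensorProduct.algebraMap_apply _).symm
    have hR : ((1 : B) ⊗ₜ[A] m p) * ((1 : B) ⊗ₜ[A] n p) = α := by
      rw [Algebra.TensorProduct.tmul_mul_tmul, hmn, mul_one]
      exact ((Algebra.TensorProduct.includeRight : B →ₐ[A] B ⊗[A] B).commutes (a p))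
    have hm' : (1 : B) ⊗ₜ[A] m p = w * (m p ⊗ₜ[A] 1) := by
      rw [← hm, ← mul_assoc, mul_comm w c, hw, one_mul]
    have h1 : (1 : B) ⊗ₜ[A] n' p = α * ((1 : B) ⊗ₜ[A] n p) := by
      simp only [n', ← Algebra.smul_def, TensorProduct.tmul_smul, α]
    have h2 : n' p ⊗ₜ[A] (1 : B) = α * (n p ⊗ₜ[A] 1) := by
      simp only [n', ← Algebra.smul_def, TensorProduct.smul_tmul', α]
    rw [h1, h2]
    nth_rewrite 1 [← hL]
    nth_rewrite 1 [← hR]
    rw [hm']
    ring
  choose e he hek using fun (p : PrimeSpectrum A) (hp : p ∈ ps) =>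
    (show ∃ e : A, (∀ q ∈ ps, q ≠ p → e ∈ q.asIdeal) ∧ e ∉ p.asIdeal by
      have hle : ¬ (∏ q ∈ ps.erase p, q.asIdeal) ≤ p.asIdeal := fun hle => by
        obtain ⟨q, hq, hqp⟩ := (p.isPrime.prod_le).mp hle
        exact (Finset.mem_erase.mp hq).1 (hinc q (Finset.mem_erase.mp hq).2 p hp hqp)
      obtain ⟨e, he, hep⟩ := SetLike.not_le_iff_exists.mp hle
      exact ⟨e, fun q hq hqp => (Ideal.prod_le_inf.trans (Finset.inf_le (Finset.mem_erase.mpr ⟨hqp, hq⟩))) he, hep⟩)
  choose A₂ hA₂ using fun i j : PrimeSpectrum A => exists_algebraMap_eq (m i * n' j) (by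
    have e := congrArg₂ (· * ·) (hm i) (hn' j)
    rw [mul_mul_mul_comm, hw, one_mul, Algebra.TensorProduct.tmul_mul_tmul,
      Algebra.TensorProduct.tmul_mul_tmul, one_mul] at e
    exact e)
  let M : B := ∑ i : ps, algebraMap A B (e i i.2) * m i
  let N : B := ∑ i : ps, algebraMap A B (e i i.2) * n' i
  refine ⟨∑ i : ps, ∑ j : ps, e i i.2 * e j j.2 * A₂ i j, M, N, fun p hp hmem => ?_, ?_, ?_⟩
  · have hkk : algebraMap A B (A₂ p p) = algebraMap A B (a p * a p) := by
      rw [hA₂, map_mul, ← mul_assoc, mul_comm (m p), mul_assoc, hmn]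
    have hinj : Function.Injective (algebraMap A B) :=
      (RingHom.faithfullyFlat_algebraMap_iff.mpr ‹_›).injective
    have hkk' : A₂ p p ∉ p.asIdeal := by
      rw [hinj hkk]
      exact fun h => ha p ((p.isPrime.mem_or_mem h).elim id id)
    rw [← Finset.sum_erase_add _ _ (Finset.mem_univ (⟨p, hp⟩ : ps))] at hmem
    rw [← Finset.sum_erase_add _ _ (Finset.mem_univ (⟨p, hp⟩ : ps))] at hmem
    have h1 : ∀ i : ps, i ≠ ⟨p, hp⟩ → e i i.2 ∈ p.asIdeal := fun i hi =>
      he i i.2 p hp fun h => hi (Subtype.ext h.symm)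
    rw [Submodule.add_mem_iff_right, Finset.sum_erase_add _ _ (Finset.mem_univ _),
      ← Finset.sum_erase_add _ _ (Finset.mem_univ (⟨p, hp⟩ : ps)), Submodule.add_mem_iff_right] at hmem
    · rcases p.isPrime.mem_or_mem hmem with h | h
      · exact hek p hp ((p.isPrime.mem_or_mem h).elim id id)
      · exact hkk' h
    · exact Submodule.sum_mem _ fun i hi =>
        Ideal.mul_mem_right _ _ (Ideal.mul_mem_left _ _ (h1 i (Finset.ne_of_mem_erase hi)))
    · exact Submodule.sum_mem _ fun i hi => Submodule.sum_mem _ fun j _ =>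
        Ideal.mul_mem_right _ _ (Ideal.mul_mem_right _ _ (h1 i (Finset.ne_of_mem_erase hi)))
  · simp only [M, TensorProduct.tmul_sum, TensorProduct.sum_tmul, Finset.mul_sum]
    refine Finset.sum_congr rfl fun i _ => ?_
    rw [← Algebra.smul_def, TensorProduct.tmul_smul, mul_smul_comm, hm, TensorProduct.smul_tmul']
  · simp only [M, N, Finset.sum_mul, Finset.mul_sum, map_sum, map_mul, hA₂]
    rw [Finset.sum_comm]
    refine Finset.sum_congr rfl fun i _ => Finset.sum_congr rfl fun j _ => ?_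
    ring

open CategoryTheory CategoryTheory.Limits MonoidalCategory CartesianMonoidalCategory MonObj GrpObj
  AlgebraicGeometry

variable {S : Scheme.{u}}

/-- Torsors of the multiplicative group have sections near a finite set of pairwise incomparable primes. -/
theorem exists_hasSectionOver_gm_finite {X : Over S} (a : AlgGrp.Action (Red.Gm S) X)
    (ha : NonAbH1.IsPseudoTorsorSch a) {A B : Type u} [CommRing A] [CommRing B] [Algebra A B]
    [Module.FaithfullyFlat A B] (j : Spec (CommRingCat.of A) ⟶ S) (x : Over.mk (base j B) ⟶ X)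
    (ps : Finset (PrimeSpectrum A)) (hinc : ∀ p ∈ ps, ∀ q ∈ ps, p.asIdeal ≤ q.asIdeal → p = q) :
    ∃ t : A, (∀ p ∈ ps, t ∉ p.asIdeal) ∧ NonAbH1.HasSectionOver X
      (Spec.map (CommRingCat.ofHom (algebraMap A (Localization.Away t))) ≫ j) := by
  obtain ⟨g, hg, hc⟩ := exists_cocycle a ha j x
  have hc' := congrArg gmVal hc
  rw [gmVal_mul, gmVal_mor, gmVal_mor, gmVal_mor] at hc'
  obtain ⟨v, hv⟩ := (isUnit_gmVal g).exists_right_inv
  obtain ⟨t, m, n, ht, hm, hmn⟩ := exists_trivializing_finite (gmVal g) v hv hc' ps hinc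
  refine ⟨t, ht, ?_⟩
  let A' := Localization.Away t
  let B' := A' ⊗[A] B
  let j' := Spec.map (CommRingCat.ofHom (algebraMap A A')) ≫ j
  let incB : B →+* B' := (Algebra.TensorProduct.includeRight : B →ₐ[A] B').toRingHom
  have hincB : Spec.map (CommRingCat.ofHom incB) ≫ base j B = base j' B' := by
    simp only [base, j', ← Category.assoc, ← Spec.map_comp, ← CommRingCat.ofHom_comp]
    congr 3
    rw [← IsScalarTower.algebraMap_eq A A' B']
    exact (Algebra.TensorProduct.includeRight : B →ₐ[A] B').comp_algebraMap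
  have hu : IsUnit (incB m) := by
    refine isUnit_of_mul_isUnit_left (y := incB n) ?_
    rw [← map_mul, hmn]
    change IsUnit (incB.comp (algebraMap A B) t)
    rw [show incB.comp (algebraMap A B) = algebraMap A B' from
      (Algebra.TensorProduct.includeRight : B →ₐ[A] B').comp_algebraMap, IsScalarTower.algebraMap_eq A A' B']
    exact (IsLocalization.Away.algebraMap_isUnit t).map (algebraMap A' B')
  obtain ⟨h, hh⟩ := exists_gmVal (f := base j' B') (incB m) hu
  let q : Over.mk (base j' B') ⟶ Over.mk (base j B) := mor incB hincB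
  let z := lift h (q ≫ x) ≫ a.act
  let l' : B' →ₐ[A'] B' ⊗[A'] B' := Algebra.TensorProduct.includeLeft
  let r' : B' →ₐ[A'] B' ⊗[A'] B' := Algebra.TensorProduct.includeRight
  let χ := Algebra.TensorProduct.productMap (R := A) (S := B' ⊗[A'] B')
    ((l'.restrictScalars A).comp Algebra.TensorProduct.includeRight)
    ((r'.restrictScalars A).comp Algebra.TensorProduct.includeRight)
  have hχl : ∀ b : B, χ (b ⊗ₜ[A] 1) = l' (incB b) := fun b => Algebra.TensorProduct.productMap_left_apply _ _ b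
  have hχr : ∀ b : B, χ ((1 : B) ⊗ₜ[A] b) = r' (incB b) := fun b => Algebra.TensorProduct.productMap_right_apply _ _ b
  have hχ : Spec.map (CommRingCat.ofHom χ.toRingHom) ≫ base j (B ⊗[A] B) = base j' (B' ⊗[A'] B') := by
    simp only [base, j', ← Category.assoc, ← Spec.map_comp, ← CommRingCat.ofHom_comp]
    congr 3
    rw [← IsScalarTower.algebraMap_eq A A' (B' ⊗[A'] B')]
    exact χ.comp_algebraMap
  let Q : Over.mk (base j' (B' ⊗[A'] B')) ⟶ Over.mk (base j (B ⊗[A] B)) := mor χ.toRingHom hχ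
  have el : amor j' (C' := B' ⊗[A'] B') l' ≫ q = Q ≫ amor j (Algebra.TensorProduct.includeLeft : B →ₐ[A] B ⊗[A] B) := by
    refine Over.OverMorphism.ext ?_
    simp only [q, Q, amor, mor, Over.comp_left, Over.homMk_left, ← Spec.map_comp, ← CommRingCat.ofHom_comp]
    congr 2
    exact RingHom.ext fun b => (hχl b).symm
  have er : amor j' (C' := B' ⊗[A'] B') r' ≫ q = Q ≫ amor j (Algebra.TensorProduct.includeRight : B →ₐ[A] B ⊗[A] B) := by
    refine Over.OverMorphism.ext ?_
    simp only [q, Q, amor, mor, Over.comp_left, Over.homMk_left, ← Spec.map_comp, ← CommRingCat.ofHom_comp]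
    congr 2
    exact RingHom.ext fun b => (hχr b).symm
  have hz : amor j' (C' := B' ⊗[A'] B') l' ≫ z = amor j' (C' := B' ⊗[A'] B') r' ≫ z := by
    simp only [z, comp_act]
    rw [← Category.assoc, el, ← Category.assoc, er, Category.assoc, Category.assoc, ← hg, comp_act, ← act_mul]
    congr 2
    refine gmVal_injective ?_
    rw [gmVal_mul, gmVal_mor, gmVal_mor, gmVal_mor, hh]
    change l' (incB m) = r' (incB m) * χ (gmVal g)
    rw [← hχl, ← hχr, ← hm, map_mul]
    exact _root_.mul_comm (χ (gmVal g)) (χ ((1 : B) ⊗ₜ[A] m))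
  obtain ⟨s, hs⟩ := exists_descent A' B' z.left (congrArg CommaMorphism.left hz)
  refine ⟨s, ?_⟩
  haveI := epi_spec A' B'
  rw [← cancel_epi (Spec.map (CommRingCat.ofHom (algebraMap A' B'))), reassoc_of% hs]
  exact Over.w z

/-- The projection of an extension by the multiplicative group is affine, flat and surjective. -/
theorem props_right {E Q : Over S} [GrpObj E] [GrpObj Q] {u : Red.Gm S ⟶ E} {v : E ⟶ Q}
    (hex : NonAbH1.IsExactSeq Scheme.fppfPrecoverage u v) :
    IsAffineHom v.left ∧ Flat v.left ∧ Surjective v.left := by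
  obtain ⟨a, ha⟩ := TwLatticeExt.exists_action hex
  have ha' : NonAbH1.IsTorsorFor Scheme.fpqcPrecoverage a :=
    ⟨ha.1, ha.2.imp fun R hR => ⟨Scheme.fppfPrecoverage_le_fpqcPrecoverage _ hR.1, hR.2⟩⟩
  haveI := FpqcDesc.isAffineHom_descends.{u}
  refine ⟨Groth.Agent.PrincBundLib.property_of_torsor @IsAffineHom a ha'
      (MorphismProperty.pullback_snd _ _ GmTorsor.isAffineHom_Gm),
    Groth.Agent.PrincBundLib.property_of_torsor @Flat a ha' (MorphismProperty.pullback_snd _ _ GmTorsor.flat_Gm),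
    ⟨fun x => ?_⟩⟩
  obtain ⟨R, hR, hsec⟩ := hex.2.2.2.2
  obtain ⟨Y, g, hg, y, rfl⟩ : ∃ (Y : Scheme.{u}) (g : Y ⟶ Q.left), R g ∧ x ∈ Set.range g := by
    obtain ⟨κ, Z, g, rfl⟩ := R.exists_eq_ofArrows
    rw [Scheme.fppfPrecoverage, Scheme.ofArrows_mem_precoverage_iff] at hR
    obtain ⟨i, hi⟩ := hR.1 x
    exact ⟨Z i, g i, Presieve.ofArrows.mk i, hi⟩
  obtain ⟨σ, hσ⟩ := hsec g hg
  refine ⟨σ y, ?_⟩
  show ((σ : Y ⟶ E.left) ≫ v.left) y = g y
  exact congrArg (fun m : Y ⟶ Q.left => m y) hσ

/-- An extension of a finite group by the multiplicative group has a section near every point of an affine base. -/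
theorem exists_local_section {R₀ : Type u} [CommRing R₀] {E Q : Over (Spec (CommRingCat.of R₀))} [GrpObj E] [GrpObj Q]
    [IsFinite Q.hom] {u : Red.Gm (Spec (CommRingCat.of R₀)) ⟶ E} {v : E ⟶ Q}
    (hex : NonAbH1.IsExactSeq Scheme.fppfPrecoverage u v) (p : Spec (CommRingCat.of R₀)) :
    ∃ U : (Spec (CommRingCat.of R₀)).Opens, p ∈ U ∧ IsAffineOpen U ∧
      NonAbH1.HasSectionOver (Over.mk v.left : Over Q.left) (pullback.fst Q.hom U.ι) := by
  obtain ⟨haff, hfl, hsurj⟩ := props_right hex
  haveI := haff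
  haveI := hfl
  haveI := hsurj
  obtain ⟨a₀, ha₀⟩ := TwLatticeExt.exists_action hex
  let i₀ := MaxTorus.dsBc Q.hom ℤ
  let i : Red.bc Q.hom (Red.Gm (Spec (CommRingCat.of R₀))) ≅ Red.Gm Q.left := (Grp.forget _).mapIso i₀
  haveI : IsMonHom i.inv := i₀.inv.hom.isMonHom_hom
  let X : Over Q.left := Over.mk v.left
  let a : AlgGrp.Action (Red.Gm Q.left) X :=
    { act := (i.inv ▷ X) ≫ a₀.act
      one_act := by
        rw [← comp_whiskerRight_assoc, IsMonHom.one_hom]
        exact a₀.one_act
      mul_act := by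
        rw [← comp_whiskerRight_assoc, IsMonHom.mul_hom, comp_whiskerRight_assoc, a₀.mul_act]
        simp only [MonoidalCategory.tensorHom_def, comp_whiskerRight, Category.assoc, MonoidalCategory.whiskerLeft_comp]
        rw [associator_naturality_middle_assoc, associator_naturality_left_assoc]
        congr 1
        simp only [← MonoidalCategory.whiskerLeft_comp_assoc, ← whisker_exchange_assoc]
        rfl }
  have hps : NonAbH1.IsPseudoTorsorSch a := by
    haveI : IsIso (lift a₀.act (snd _ X)) := ha₀.1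
    show IsIso (lift ((i.inv ▷ X) ≫ a₀.act) (snd _ X))
    have : lift ((i.inv ▷ X) ≫ a₀.act) (snd (Red.Gm Q.left) X) = (i.inv ▷ X) ≫ lift a₀.act (snd _ X) := by
      rw [comp_lift, whiskerRight_snd]
    rw [this]
    infer_instance
  haveI : IsAffine Q.left := isAffine_of_isAffineHom Q.hom
  haveI : IsAffine E.left := isAffine_of_isAffineHom v.left
  let A := Γ(Q.left, ⊤)
  let B := Γ(E.left, ⊤)
  letI : Algebra A B := v.left.appTop.hom.toAlgebra
  let φ : CommRingCat.of A ⟶ CommRingCat.of B := CommRingCat.ofHom (algebraMap A B)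
  have hφ : Spec.map φ ≫ Q.left.isoSpec.inv = E.left.isoSpec.inv ≫ v.left := Scheme.isoSpec_inv_naturality v.left
  have hφ' : Spec.map φ = E.left.isoSpec.inv ≫ v.left ≫ Q.left.isoSpec.hom := by
    rw [← reassoc_of% hφ, Iso.inv_hom_id, Category.comp_id]
  haveI : Module.FaithfullyFlat A B := by
    have h1 : Flat (Spec.map φ) := by rw [hφ']; infer_instance
    have h2 : Surjective (Spec.map φ) := by rw [hφ']; infer_instance
    have hff : φ.hom.FaithfullyFlat := by
      rw [RingHom.FaithfullyFlat.iff_flat_and_comap_surjective]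
      exact ⟨(HasRingHomProperty.Spec_iff (P := @Flat)).mp h1, h2.surj⟩
    exact hff
  let j : Spec (CommRingCat.of A) ⟶ Q.left := Q.left.isoSpec.inv
  haveI : IsFinite (j ≫ Q.hom) := inferInstance
  have hfin := Scheme.Hom.finite_preimage_singleton (j ≫ Q.hom) p
  obtain ⟨t, ht, σ, hσ⟩ := exists_hasSectionOver_gm_finite a hps j
    (Over.homMk E.left.isoSpec.inv hφ.symm) hfin.toFinset (fun x hx y hy hxy => by
      rw [Set.Finite.mem_toFinset] at hx hy
      have hd := Scheme.Hom.isDiscrete_preimage_singleton (j ≫ Q.hom) p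
      haveI := hd.to_subtype
      have hsp : (⟨x, hx⟩ : ↥((j ≫ Q.hom) ⁻¹' {p})) ⤳ ⟨y, hy⟩ :=
        (subtype_specializes_iff _ _).mpr ((PrimeSpectrum.le_iff_specializes x y).mp hxy)
      exact congrArg Subtype.val hsp.eq)
  let k : Spec (CommRingCat.of (Localization.Away t)) ⟶ Q.left :=
    Spec.map (CommRingCat.ofHom (algebraMap A (Localization.Away t))) ≫ j
  haveI : IsOpenImmersion (Spec.map (CommRingCat.ofHom (algebraMap A (Localization.Away t)))) :=
    IsOpenImmersion.of_isLocalization t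
  haveI : IsOpenImmersion k := inferInstance
  let C : Set Q.left := (Set.range k)ᶜ
  have hC : IsClosed (Q.hom '' C) := Q.hom.isClosedMap _ k.isOpenEmbedding.isOpen_range.isClosed_compl
  have hp : p ∉ Q.hom '' C := by
    rintro ⟨q, hq, hqp⟩
    apply hq
    obtain ⟨z, rfl⟩ : ∃ z, j z = q := ⟨Q.left.isoSpec.hom q, by
      show (Q.left.isoSpec.hom ≫ Q.left.isoSpec.inv) q = q
      rw [Iso.hom_inv_id]; rfl⟩
    have hz : z ∈ hfin.toFinset := by
      rw [Set.Finite.mem_toFinset]
      show (j ≫ Q.hom) z = p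
      rw [Scheme.Hom.comp_apply]
      exact hqp
    obtain ⟨w, hw⟩ : z ∈ Set.range (PrimeSpectrum.comap (algebraMap A (Localization.Away t))) := by
      rw [PrimeSpectrum.localization_away_comap_range (Localization.Away t) t]
      exact ht z hz
    exact ⟨w, by rw [show k w = j (Spec.map (CommRingCat.ofHom (algebraMap A (Localization.Away t))) w) from
      Scheme.Hom.comp_apply _ _ _]; exact congrArg j hw⟩
  obtain ⟨_, ⟨U : (Spec (CommRingCat.of R₀)).Opens, hU, rfl⟩, hpU, hUsub⟩ :=
    (Spec (CommRingCat.of R₀)).isBasis_affineOpens.exists_subset_of_mem_open hp hC.isOpen_compl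
  refine ⟨U, hpU, hU, ?_⟩
  have hr : Set.range (pullback.fst Q.hom U.ι) ⊆ Set.range k := by
    rw [Scheme.Pullback.range_fst]
    intro q hq
    by_contra h
    rw [Scheme.Opens.range_ι] at hq
    exact hUsub hq ⟨q, h, rfl⟩
  refine ⟨IsOpenImmersion.lift k (pullback.fst Q.hom U.ι) hr ≫ σ, ?_⟩
  rw [Category.assoc, hσ]
  exact IsOpenImmersion.lift_fac _ _ _

end Groth.Agent.GmExtSplit
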