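import Groth.Agent.GmExtSplit.Mult
import Groth.Agent.GmExtSplit.Section
import Groth.Agent.GmExtSplit.Finite

/-!
# Extensions by the multiplicative group split fppf locally
-/

set_option autoImplicit false
set_option backward.isDefEq.respectTransparency false
set_option backward.isDefEq.respectTransparency.types false
set_option linter.style.haveILetI false
set_option synthInstance.maxHeartbeats 200000
set_option maxHeartbeats 1000000

universe u

open CategoryTheory CategoryTheory.Limits MonoidalCategory CartesianMonoidalCategory MonObj GrpObj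
  AlgebraicGeometry

noncomputable section

namespace Groth.Agent.GmExtSplit

variable {S : Scheme.{u}}

theorem isExactSeq_gm_bc {Q E : Over S} [GrpObj Q] [GrpObj E] {u : Red.Gm S ⟶ E} {v : E ⟶ Q}
    (hex : NonAbH1.IsExactSeq Scheme.fppfPrecoverage u v) {S' : Scheme.{u}} (f : S' ⟶ S) :
    ∃ u' : Red.Gm S' ⟶ Red.bc f E, NonAbH1.IsExactSeq Scheme.fppfPrecoverage u' ((Over.pullback f).map v) := by
  let d : Red.Gm S' ≅ Red.bc f (Red.Gm S) := (Grp.forget _).mapIso (MaxTorus.dsBc f ℤ).symm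
  haveI : IsMonHom d.hom := (MaxTorus.dsBc f ℤ).inv.hom.isMonHom_hom
  exact ⟨_, isExactSeq_of_iso d (TwLatticeExt.isExactSeq_bc f hex)⟩

theorem exists_splitting_of_finite {Q E : Over S} [GrpObj Q] [GrpObj E] [IsCommMonObj Q] [IsCommMonObj E]
    [IsFinite Q.hom] [Flat Q.hom] [LocallyOfFinitePresentation Q.hom] (u : Red.Gm S ⟶ E) (v : E ⟶ Q)
    (hex : NonAbH1.IsExactSeq Scheme.fppfPrecoverage u v) :
    TwC.Locally S TwC.Topology.fppf (fun S' f =>
      ∃ σ : Red.bc f Q ⟶ Red.bc f E, IsMonHom σ ∧ σ ≫ (Over.pullback f).map v = 𝟙 (Red.bc f Q)) := by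
  intro s
  obtain ⟨V, hV, hsV, -⟩ := exists_isAffineOpen_mem_and_subset (x := s) (U := ⊤) trivial
  let g₀ : Spec (CommRingCat.of Γ(S, V)) ⟶ S := hV.fromSpec
  obtain ⟨p, hp⟩ : s ∈ Set.range g₀ := by
    show s ∈ Set.range hV.fromSpec
    rw [hV.range_fromSpec]; exact hsV
  obtain ⟨u₀, hex₀⟩ := isExactSeq_gm_bc hex g₀
  haveI : IsFinite (Red.bc g₀ Q).hom := inferInstanceAs (IsFinite (pullback.snd Q.hom g₀))
  haveI : Flat (Red.bc g₀ Q).hom := inferInstanceAs (Flat (pullback.snd Q.hom g₀))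
  haveI : LocallyOfFinitePresentation (Red.bc g₀ Q).hom :=
    inferInstanceAs (LocallyOfFinitePresentation (pullback.snd Q.hom g₀))
  obtain ⟨U, hpU, hU, σ, hσ⟩ := exists_local_section hex₀ p
  let R := Γ(Spec (CommRingCat.of Γ(S, V)), U)
  let k : Spec (CommRingCat.of R) ⟶ Spec (CommRingCat.of Γ(S, V)) := hU.fromSpec
  let w : Spec (CommRingCat.of R) ⟶ (U : Scheme.{u}) := hU.isoSpec.inv
  have hw : w ≫ U.ι = k := rfl
  obtain ⟨u₁, hex₁⟩ := isExactSeq_gm_bc hex₀ k
  let Q₀ := Red.bc g₀ Q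
  let E₀ := Red.bc g₀ E
  let Q₁ := Red.bc k Q₀
  let v₀ : E₀ ⟶ Q₀ := (Over.pullback g₀).map v
  replace hσ : σ ≫ v₀.left = pullback.fst Q₀.hom U.ι := hσ
  let m : Q₁.left ⟶ pullback Q₀.hom U.ι := pullback.lift (pullback.fst Q₀.hom k) (pullback.snd Q₀.hom k ≫ w)
    (by rw [Category.assoc, hw, pullback.condition])
  have hm : (m ≫ σ) ≫ v₀.left = pullback.fst Q₀.hom k := by
    rw [Category.assoc, hσ, pullback.lift_fst]
  let s₁ : Q₁ ⟶ Red.bc k E₀ := Over.homMk (pullback.lift (m ≫ σ) (pullback.snd Q₀.hom k) (by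
    rw [← Over.w v₀, ← Category.assoc, hm, pullback.condition]))
    (pullback.lift_snd _ _ _)
  have hs₁ : s₁ ≫ (Over.pullback k).map v₀ = 𝟙 Q₁ := by
    refine Over.OverMorphism.ext ?_
    show pullback.lift _ _ _ ≫ ((Over.pullback k).map v₀).left = 𝟙 _
    apply pullback.hom_ext
    · simp only [Category.assoc]
      erw [pullback.lift_fst, pullback.lift_fst_assoc]
      exact hm.trans (Category.id_comp _).symm
    · refine (Category.assoc _ _ _).trans ((congrArg (_ ≫ ·) (Over.w ((Over.pullback k).map v₀))).trans ?_)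
      exact (pullback.lift_snd _ _ _).trans (Category.id_comp _).symm
  haveI : IsFinite Q₁.hom := inferInstanceAs (IsFinite (pullback.snd Q₀.hom k))
  haveI : Flat Q₁.hom := inferInstanceAs (Flat (pullback.snd Q₀.hom k))
  haveI : LocallyOfFinitePresentation Q₁.hom :=
    inferInstanceAs (LocallyOfFinitePresentation (pullback.snd Q₀.hom k))
  haveI : IsAffineHom Q₁.hom := inferInstance
  obtain ⟨A, _, _, ⟨eQ⟩⟩ := MultBridge.exists_hopf R Q₁
  haveI : Module.Finite R A := by
    have h := MultBridge.prop_algebraMap eQ @IsFinite inferInstance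
    rw [IsFinite.SpecMap_iff] at h
    exact RingHom.finite_algebraMap.mp h
  haveI : Module.Flat R A := by
    have h := MultBridge.prop_algebraMap eQ @Flat inferInstance
    rw [HasRingHomProperty.Spec_iff (P := @Flat)] at h
    exact RingHom.flat_algebraMap_iff.1 h
  haveI : Algebra.FinitePresentation R A := by
    have h := MultBridge.prop_algebraMap eQ @LocallyOfFinitePresentation inferInstance
    rw [HasRingHomProperty.Spec_iff (P := @LocallyOfFinitePresentation)] at h
    exact RingHom.finitePresentation_algebraMap.1 h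
  haveI : Module.FinitePresentation R A := Module.FinitePresentation.of_finite_of_finitePresentation R A
  haveI : Module.Projective R A := Module.Flat.projective_of_finitePresentation
  obtain ⟨S', b, hb₁, hb₂, hb₃, hb₄⟩ := exists_splitting_affine eQ hex₁ s₁ hs₁
  haveI := hb₁
  haveI := hb₂
  haveI := hb₃
  refine ⟨S', (b ≫ k) ≫ g₀, inferInstance, inferInstance, ?_,
    exists_section_of_comp (b ≫ k) g₀ rfl (exists_section_of_comp b k rfl hb₄)⟩
  obtain ⟨r, hr⟩ : p ∈ Set.range k := by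
    show p ∈ Set.range hU.fromSpec
    rw [hU.range_fromSpec]; exact hpU
  obtain ⟨t, ht⟩ := b.surjective r
  refine ⟨t, ?_⟩
  show ((b ≫ k) ≫ g₀) t = s
  rw [Scheme.Hom.comp_apply, Scheme.Hom.comp_apply, ht, hr, hp]

/-- The theorem. -/
theorem main {Q E : Over S} [GrpObj Q] [GrpObj E] [IsCommMonObj Q] [IsCommMonObj E]
    (hQ : (IsFinite Q.hom ∧ Flat Q.hom ∧ LocallyOfFinitePresentation Q.hom) ∨ SGA3x.IsMultTypeFT Q)
    (u : Red.Gm S ⟶ E) (v : E ⟶ Q) (hex : NonAbH1.IsExactSeq Scheme.fppfPrecoverage u v) :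
    TwC.Locally S TwC.Topology.fppf (fun S' f =>
      ∃ σ : Red.bc f Q ⟶ Red.bc f E, IsMonHom σ ∧ σ ≫ (Over.pullback f).map v = 𝟙 (Red.bc f Q)) := by
  rcases hQ with ⟨h₁, h₂, h₃⟩ | h
  · haveI := h₁
    haveI := h₂
    haveI := h₃
    exact exists_splitting_of_finite u v hex
  · exact exists_splitting_of_isMultTypeFT h u v hex

end Groth.Agent.GmExtSplit
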