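import Groth.Agent.GmExtSplit.Split
import Groth.Agent.TwLatticeExt.Action
import Groth.Agent.HomRep.DS
import Groth.Agent.HomRep.Finite
import Groth.Agent.MaxTorus.Greatest
import Groth.Agent.GmTorsor.Main
import Groth.Agent.PrincBundLib.Descends
import Groth.Agent.MultKer.Main
import Groth.Agent.FpqcDesc.Basic
import Groth.Agent.S5431

/-!
# Extensions of groups of multiplicative type by the multiplicative group split fppf locally
-/

set_option autoImplicit false
set_option backward.isDefEq.respectTransparency false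
set_option backward.isDefEq.respectTransparency.types false
set_option linter.style.haveILetI false
set_option synthInstance.maxHeartbeats 200000
set_option maxHeartbeats 1000000

universe u

open CategoryTheory CategoryTheory.Limits MonoidalCategory CartesianMonoidalCategory MonObj GrpObj
  AlgebraicGeometry

noncomputable section

namespace Groth.Agent.GmExtSplit

variable {S : Scheme.{u}}

/-- A homomorphism from `𝔾ₘ` to a diagonalisable group which is a monomorphism is locally given by a surjection of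
character groups. -/
theorem exists_char_of_mono {M : Type} [AddCommGroup M] [AddGroup.FG M] (ψ : Red.Gm S ⟶ Red.DS S M) [IsMonHom ψ]
    [Mono ψ] (s : S) : ∃ U : S.Opens, s ∈ U ∧ ∃ φ : M →+ ℤ, Function.Surjective φ ∧
      (Over.pullback U.ι).map ψ = (Over.pullback U.ι).map (Red.DSmap S φ) := by
  let T : Over S := Over.mk (𝟙 S)
  have hfam : AutFam.IsHomFamily _ _ (fst (Red.Gm S) T ≫ ψ) := fun X g₁ g₂ t => by
    simp only [lift_fst_assoc, MonObj.mul_comp]
  obtain ⟨U, hsU, φ, hφ⟩ := HomRep.exists_local_char (fst (Red.Gm S) T ≫ ψ) hfam s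
  let W : Over S := Over.mk (U.ι ≫ 𝟙 S)
  replace hφ : fst (Red.Gm S) W ≫ ψ = fst (Red.Gm S) W ≫ Red.DSmap S φ :=
    (whiskerLeft_fst_assoc (Red.Gm S) (HomRep.openRes T U) ψ).symm.trans hφ
  have hsurj : Function.Surjective φ := by
    let q : ℤ →+ (ℤ ⧸ φ.range) := QuotientAddGroup.mk' φ.range
    haveI := DSMapLib.isMonHom_DSmap S q
    have hcomp : q.comp φ = 0 := AddMonoidHom.ext fun m =>
      (QuotientAddGroup.eq_zero_iff (φ m)).mpr ⟨m, rfl⟩
    have h0 : fst (Red.DS S (ℤ ⧸ φ.range)) W ≫ Red.DSmap S q = 1 := by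
      rw [← cancel_mono ψ, MonObj.one_comp, ← whiskerRight_fst (Red.DSmap S q) W, Category.assoc, hφ,
        whiskerRight_fst_assoc, DSMapLib.comp_eq_one φ q hcomp, MonObj.comp_one]
    have hzero : Red.DSmap S (0 : ℤ →+ (ℤ ⧸ φ.range)) = 1 := by
      haveI := DSMapLib.isMonHom_DSmap S (0 : ℤ →+ (ℤ ⧸ φ.range))
      have h := DSMapLib.comp_eq_one (S := S) (AddMonoidHom.id ℤ) (0 : ℤ →+ (ℤ ⧸ φ.range)) (AddMonoidHom.ext fun _ => rfl)
      rwa [MaxTorus.DSmap_id, Category.comp_id] at h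
    have hq : q = 0 := HomRep.eq_of_fst_DSmap_eq (T := W) q 0 (⟨s, hsU⟩ : (U : Scheme.{u}))
      (by rw [h0, hzero, MonObj.comp_one])
    intro n
    have : q n = 0 := by rw [hq]; rfl
    exact (QuotientAddGroup.eq_zero_iff n).mp this
  refine ⟨U, hsU, φ, hsurj, ?_⟩
  let adj := Over.mapPullbackAdj U.ι
  have key : ∀ h : Red.Gm S ⟶ Red.DS S M,
      (Over.pullback U.ι).map h = adj.homEquiv _ _ (adj.counit.app (Red.Gm S) ≫ h) := fun h => by
    rw [adj.homEquiv_unit, Functor.map_comp, ← Category.assoc, adj.right_triangle_components, Category.id_comp]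
  rw [key, key]
  let π : (Over.map U.ι).obj ((Over.pullback U.ι).obj (Red.Gm S)) ⟶ W :=
    Over.homMk ((Over.pullback U.ι).obj (Red.Gm S)).hom (congrArg (_ ≫ ·) (Category.comp_id U.ι))
  refine congrArg _ ?_
  have hc := congrArg (fun m => lift (adj.counit.app (Red.Gm S)) π ≫ m) hφ
  exact (lift_fst_assoc _ _ _).symm.trans (hc.trans (lift_fst_assoc _ _ _))

theorem exists_splitting_of_isMultTypeFT {Q E : Over S} [GrpObj Q] [GrpObj E] [IsCommMonObj E]
    (hQ : SGA3x.IsMultTypeFT Q) (u : Red.Gm S ⟶ E) (v : E ⟶ Q)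
    (hex : NonAbH1.IsExactSeq Scheme.fppfPrecoverage u v) :
    TwC.Locally S TwC.Topology.fppf (fun S' f =>
      ∃ σ : Red.bc f Q ⟶ Red.bc f E, IsMonHom σ ∧ σ ≫ (Over.pullback f).map v = 𝟙 (Red.bc f Q)) := by
  haveI := hex.1
  haveI := hex.2.1
  -- the middle term is of multiplicative type
  obtain ⟨a, ha⟩ := TwLatticeExt.exists_action hex
  have ha' : NonAbH1.IsTorsorFor Scheme.fpqcPrecoverage a :=
    ⟨ha.1, ha.2.imp fun R hR => ⟨Scheme.fppfPrecoverage_le_fpqcPrecoverage _ hR.1, hR.2⟩⟩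
  haveI hfl : Flat v.left := Groth.Agent.PrincBundLib.property_of_torsor @Flat a ha'
    (MorphismProperty.pullback_snd _ _ GmTorsor.flat_Gm)
  haveI haff : IsAffineHom v.left := by
    haveI := FpqcDesc.isAffineHom_descends.{u}
    exact Groth.Agent.PrincBundLib.property_of_torsor @IsAffineHom a ha'
      (MorphismProperty.pullback_snd _ _ GmTorsor.isAffineHom_Gm)
  haveI hsurj : Surjective v.left := by
    refine ⟨fun x => ?_⟩
    obtain ⟨R, hR, hsec⟩ := hex.2.2.2.2
    obtain ⟨Y, g, hg, y, rfl⟩ : ∃ (Y : Scheme.{u}) (g : Y ⟶ Q.left), R g ∧ x ∈ Set.range g := by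
      obtain ⟨κ, Z, g, rfl⟩ := R.exists_eq_ofArrows
      rw [Scheme.fppfPrecoverage, Scheme.ofArrows_mem_precoverage_iff] at hR
      obtain ⟨i, hi⟩ := hR.1 x
      exact ⟨Z i, g i, Presieve.ofArrows.mk i, hi⟩
    obtain ⟨σ, hσ⟩ := hsec g hg
    refine ⟨σ y, ?_⟩
    show ((σ : Y ⟶ E.left) ≫ v.left) y = g y
    exact congrArg (fun m : Y ⟶ Q.left => m y) hσ
  have hker : AlgGrp.IsKernel u v := by
    haveI : Mono u := ⟨fun a b h => FppfExtLib.eq_of_comp_eq hex h⟩
    refine ⟨⟨by rw [hex.2.2.1, Hom.one_def]⟩, ⟨PullbackCone.isLimitAux' _ fun s => ?_⟩⟩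
    have hs : s.fst ≫ v = 1 := by
      rw [s.condition, Hom.one_def]
      exact congrArg (· ≫ η[Q]) (toUnit_unique _ _)
    choose c hc using FppfExtLib.exists_of_comp_eq_one hex _ hs
    exact ⟨c, hc, toUnit_unique _ _, fun {m} h₁ _ => FppfExtLib.eq_of_comp_eq hex (h₁.trans hc.symm)⟩
  have hGm : SGA3x.IsMultTypeFT (Red.Gm S) := MultKer.isMultTypeFT_DS S ℤ
  have hE : SGA3x.IsMultTypeFT E := S5431.result S E (Red.Gm S) Q v u hker hGm hQ (Or.inl inferInstance)
  intro s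
  obtain ⟨S', f, hf, ⟨t, ht⟩, M, _, hM, ⟨e⟩⟩ := HomRep.locally_etale_of_isMultTypeFT hE s
  haveI := hf
  haveI := hM
  let F := Over.pullback f
  let d := MaxTorus.dsBc f ℤ
  let e' : Red.bc f E ≅ Red.DS S' M := (Grp.forget _).mapIso e
  let d' : Red.bc f (Red.Gm S) ≅ Red.DS S' ℤ := (Grp.forget _).mapIso d
  haveI : IsMonHom e'.hom := e.hom.hom.isMonHom_hom
  haveI : IsMonHom e'.inv := e.inv.hom.isMonHom_hom
  haveI : IsMonHom d'.inv := d.inv.hom.isMonHom_hom
  haveI : IsMonHom d'.hom := d.hom.hom.isMonHom_hom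
  haveI : Mono u := ⟨fun a b h => FppfExtLib.eq_of_comp_eq hex h⟩
  let u₁ : Red.bc f (Red.Gm S) ⟶ Red.bc f E := F.map u
  haveI : Mono u₁ := inferInstanceAs (Mono (F.map u))
  let ψ : Red.Gm S' ⟶ Red.DS S' M := d'.inv ≫ u₁ ≫ e'.hom
  obtain ⟨U, htU, φ, hφ, hψ⟩ := exists_char_of_mono ψ t
  obtain ⟨m, hm⟩ := hφ 1
  let k : ℤ →+ M := zmultiplesHom M m
  have hk : φ.comp k = AddMonoidHom.id ℤ := by
    ext
    simp [k, hm]
  haveI := DSMapLib.isMonHom_DSmap S' k
  let G := Over.pullback U.ι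
  let χ : Red.bc U.ι (Red.bc f E) ⟶ Red.bc U.ι (Red.bc f (Red.Gm S)) :=
    G.map (e'.hom ≫ Red.DSmap S' k ≫ d'.inv)
  haveI : IsMonHom χ := inferInstance
  have hex' := TwLatticeExt.isExactSeq_bc U.ι (TwLatticeExt.isExactSeq_bc f hex)
  have hχ : G.map u₁ ≫ χ = 𝟙 _ := by
    have h1 : u₁ ≫ e'.hom = d'.hom ≫ ψ := by simp [ψ]
    rw [← G.map_comp, ← Category.assoc, h1, Category.assoc, G.map_comp, G.map_comp ψ, hψ, ← G.map_comp,
      ← Category.assoc (Red.DSmap S' φ), MaxTorus.DSmap_comp, show φ.comp k = AddMonoidHom.id ℤ from hk, MaxTorus.DSmap_id, Category.id_comp,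
      ← G.map_comp, Iso.hom_inv_id, G.map_id]
  refine ⟨U, U.ι ≫ f, inferInstance, inferInstance, ⟨⟨t, htU⟩, ?_⟩,
    exists_section_of_comp U.ι f rfl (exists_section_of_retraction hex' χ hχ)⟩
  show (U.ι ≫ f) ⟨t, htU⟩ = s
  rw [Scheme.Hom.comp_apply]
  exact ht

end Groth.Agent.GmExtSplit
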