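import Groth.Agent.TwLatticeExt.BaseChange
import Groth.Agent.HomDesc.BaseChange
import Groth.Agent.MaxTorus.ImageLocal

/-!
# Splittings of extensions by the multiplicative group from retractions
-/

set_option autoImplicit false
set_option backward.isDefEq.respectTransparency false
set_option backward.isDefEq.respectTransparency.types false
set_option linter.style.haveILetI false
set_option synthInstance.maxHeartbeats 200000
set_option maxHeartbeats 1000000

universe u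

open CategoryTheory CategoryTheory.Limits MonoidalCategory CartesianMonoidalCategory MonObj GrpObj
  AlgebraicGeometry

noncomputable section

namespace Groth.Agent.GmExtSplit

variable {S : Scheme.{u}}

/-- A morphism multiplicative on points is a homomorphism. -/
theorem isMonHom_of_points {X Y : Over S} [GrpObj X] [GrpObj Y] (f : X ⟶ Y)
    (h : ∀ (T : Over S) (a b : T ⟶ X), (a * b) ≫ f = (a ≫ f) * (b ≫ f)) : IsMonHom f := by
  refine ⟨?_, ?_⟩
  · have h1 := h (𝟙_ (Over S)) 1 1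
    rw [_root_.one_mul] at h1
    have h2 := mul_eq_left.mp h1.symm
    rw [Hom.one_def, Hom.one_def, toUnit_unique (toUnit (𝟙_ (Over S))) (𝟙 _)] at h2
    simpa using h2
  · have h1 := h (X ⊗ X) (fst X X) (snd X X)
    rw [Hom.mul_def, lift_fst_snd, Category.id_comp] at h1
    rw [h1, Hom.mul_def]
    congr 1

variable {G E Q : Over S} [GrpObj G] [GrpObj E] [GrpObj Q] {u : G ⟶ E} {v : E ⟶ Q}

/-- A retraction gives a splitting. -/
theorem exists_section_of_retraction [IsCommMonObj E] (hex : NonAbH1.IsExactSeq Scheme.fppfPrecoverage u v)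
    (χ : E ⟶ G) [IsMonHom χ] (hχ : u ≫ χ = 𝟙 G) : ∃ σ : Q ⟶ E, IsMonHom σ ∧ σ ≫ v = 𝟙 Q := by
  haveI := hex.1
  haveI := hex.2.1
  let r : E ⟶ E := 𝟙 E * (χ ≫ u)⁻¹
  have hr : ∀ (T : Over S) (a : T ⟶ E), a ≫ r = a * (a ≫ χ ≫ u)⁻¹ := fun T a => by
    simp only [r, MonObj.comp_mul, GrpObj.comp_inv, Category.comp_id]
  have hr_mul : ∀ (T : Over S) (a b : T ⟶ E), (a * b) ≫ r = (a ≫ r) * (b ≫ r) := fun T a b => by
    rw [hr, hr, hr, MonObj.mul_comp, _root_.mul_inv_rev, _root_.mul_comm (b ≫ χ ≫ u)⁻¹, _root_.mul_mul_mul_comm]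
  have hr_u : ∀ (T : Over S) (c : T ⟶ G), (c ≫ u) ≫ r = 1 := fun T c => by
    rw [hr, Category.assoc, reassoc_of% hχ, mul_inv_cancel]
  have hwd : ∀ (T : Over S) (a b : T ⟶ E), a ≫ v = b ≫ v → a ≫ r = b ≫ r := fun T a b h => by
    obtain ⟨c, hc⟩ := FppfExtLib.exists_of_comp_eq_one hex (a * b⁻¹)
      (by rw [MonObj.mul_comp, GrpObj.inv_comp, h, mul_inv_cancel])
    have h1 : a = (c ≫ u) * b := by rw [hc, inv_mul_cancel_right]
    rw [h1, hr_mul, hr_u, _root_.one_mul]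
  let R := FppfExtLib.liftSieve v (𝟙 Q)
  have hR : R ∈ (Scheme.fppfTopology.over S) Q := FppfExtLib.liftSieve_mem hex _
  obtain ⟨σ, hσ⟩ := FppfExtLib.exists_glue hR (W := E)
    (fun T g hg => (hg : ∃ e : T ⟶ E, e ≫ v = g ≫ 𝟙 Q).choose ≫ r)
    (fun T₁ T₂ g₁ h₁ a h₂ => by
      rw [← Category.assoc]
      refine hwd _ _ _ ?_
      rw [(h₂ : ∃ e : T₂ ⟶ E, e ≫ v = (a ≫ g₁) ≫ 𝟙 Q).choose_spec, Category.assoc a _ v,
        (h₁ : ∃ e : T₁ ⟶ E, e ≫ v = g₁ ≫ 𝟙 Q).choose_spec, Category.assoc])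
  have hvσ : v ≫ σ = r := by
    have hv : R.arrows v := ⟨𝟙 E, by simp⟩
    rw [hσ v hv]
    refine (hwd _ _ _ ?_).trans (Category.id_comp r)
    rw [(hv : ∃ e : E ⟶ E, e ≫ v = v ≫ 𝟙 Q).choose_spec]
    simp
  refine ⟨σ, isMonHom_of_points σ fun T a b => ?_, ?_⟩
  · refine FppfExtLib.hom_ext_sieve ((Scheme.fppfTopology.over S).intersection_covering
      (FppfExtLib.liftSieve_mem hex a) (FppfExtLib.liftSieve_mem hex b)) _ _ ?_
    rintro T' g ⟨⟨x, hx⟩, ⟨y, hy⟩⟩
    have hxy : g ≫ (a * b) = (x * y) ≫ v := by rw [MonObj.comp_mul, MonObj.mul_comp, hx, hy]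
    rw [← Category.assoc, hxy, MonObj.comp_mul, ← Category.assoc, ← Category.assoc, ← hx, ← hy, Category.assoc,
      Category.assoc, Category.assoc, hvσ, hr_mul]
  · refine FppfExtLib.hom_ext_sieve hR _ _ ?_
    rintro T g ⟨e, he⟩
    rw [Category.comp_id] at he
    rw [← he, Category.assoc, reassoc_of% hvσ, ← Category.assoc, hr, MonObj.mul_comp, GrpObj.inv_comp,
      ← Category.assoc e χ u, FppfExtLib.comp_comp_eq_one hex, inv_one, _root_.mul_one, Category.comp_id]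

/-- Exactness is invariant under replacing the kernel by an isomorphic group. -/
theorem isExactSeq_of_iso {G' : Over S} [GrpObj G'] (i : G' ≅ G) [IsMonHom i.hom]
    (hex : NonAbH1.IsExactSeq Scheme.fppfPrecoverage u v) :
    NonAbH1.IsExactSeq Scheme.fppfPrecoverage (i.hom ≫ u) v := by
  haveI := hex.1
  haveI := hex.2.1
  haveI : Mono u := ⟨fun a b h => FppfExtLib.eq_of_comp_eq hex h⟩
  have h1 : (i.hom ≫ u) ≫ v = 1 := by rw [Category.assoc, hex.2.2.1, MonObj.comp_one]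
  refine ⟨inferInstance, hex.2.1, h1, TwLatticeExt.isPullback_of_kernel _ _ h1 fun {X} k hk => ?_, hex.2.2.2.2⟩
  obtain ⟨c, hc⟩ := FppfExtLib.exists_of_comp_eq_one hex k hk
  exact ⟨c ≫ i.inv, by rw [Category.assoc, Iso.inv_hom_id_assoc, hc]⟩

omit [GrpObj G] in
/-- A splitting over a composite of base changes. -/
theorem exists_section_of_comp {S' S'' : Scheme.{u}} (k : S'' ⟶ S') (f : S' ⟶ S) {d : S'' ⟶ S} (hd : k ≫ f = d)
    (h : ∃ σ : Red.bc k (Red.bc f Q) ⟶ Red.bc k (Red.bc f E),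
      IsMonHom σ ∧ σ ≫ (Over.pullback k).map ((Over.pullback f).map v) = 𝟙 _) :
    ∃ σ : Red.bc d Q ⟶ Red.bc d E, IsMonHom σ ∧ σ ≫ (Over.pullback d).map v = 𝟙 (Red.bc d Q) := by
  obtain ⟨σ, hσ, hσv⟩ := h
  haveI := hσ
  haveI := HomDesc.isMonHom_bcCompIso k f hd Q
  haveI := HomDesc.isMonHom_bcCompIso k f hd E
  haveI : IsMonHom (ActBC.bcCompIso k f Q hd).inv := inferInstance
  refine ⟨(ActBC.bcCompIso k f Q hd).inv ≫ σ ≫ (ActBC.bcCompIso k f E hd).hom, inferInstance, ?_⟩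
  rw [Category.assoc, Category.assoc, ← ActBC.bcCompIso_hom_naturality, reassoc_of% hσv, Iso.inv_hom_id]

end Groth.Agent.GmExtSplit
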